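import Mathlib
import Groth.Agent.EGA2SymLib.RLAmple
import Groth.Agent.RelConeLib.Cone

/-!
# The symmetric algebra of an invertible module over a trivializing affine open as a subring of power series
-/

set_option autoImplicit false
universe u

open CategoryTheory CategoryTheory.Limits AlgebraicGeometry TopologicalSpace Opposite
open AmpleLib (GenOn)
open EGA2SymLib

noncomputable section

namespace EGA2ContractLib

variable {X : Scheme.{u}} (𝒜 : RelProj.QCGrAlg X) {T : X.Opens} (hT : IsAffineOpen T)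

/-- the homogeneous components as a power series -/
def expand (a : 𝒜.presheaf.obj (op T)) : PowerSeries (𝒜.presheaf.obj (op T)) :=
  PowerSeries.mk fun n => (DirectSum.decompose (𝒜.deg T hT) a n : 𝒜.presheaf.obj (op T))

@[simp] theorem coeff_expand (a : 𝒜.presheaf.obj (op T)) (n : ℕ) :
    PowerSeries.coeff n (expand 𝒜 hT a) = (DirectSum.decompose (𝒜.deg T hT) a n : 𝒜.presheaf.obj (op T)) :=
  PowerSeries.coeff_mk _ _

theorem expand_add (a b : 𝒜.presheaf.obj (op T)) :
    expand 𝒜 hT (a + b) = expand 𝒜 hT a + expand 𝒜 hT b := by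
  ext n
  rw [map_add, coeff_expand, coeff_expand, coeff_expand, DirectSum.decompose_add, DirectSum.add_apply,
    AddMemClass.coe_add]

theorem expand_of_mem {i : ℕ} {a : 𝒜.presheaf.obj (op T)} (ha : a ∈ 𝒜.deg T hT i) :
    expand 𝒜 hT a = PowerSeries.monomial i a := by
  classical
  ext n
  rw [coeff_expand, PowerSeries.coeff_monomial]
  split_ifs with h
  · subst h; exact DirectSum.decompose_of_mem_same _ ha
  · exact DirectSum.decompose_of_mem_ne _ ha (Ne.symm h)

theorem expand_zero : expand 𝒜 hT 0 = 0 := by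
  rw [expand_of_mem 𝒜 hT (zero_mem (𝒜.deg T hT 0)), map_zero]

theorem expand_mul (a b : 𝒜.presheaf.obj (op T)) :
    expand 𝒜 hT (a * b) = expand 𝒜 hT a * expand 𝒜 hT b := by
  induction a using DirectSum.Decomposition.inductionOn (𝒜.deg T hT) with
  | zero => rw [zero_mul, expand_zero, zero_mul]
  | @homogeneous i a =>
    induction b using DirectSum.Decomposition.inductionOn (𝒜.deg T hT) with
    | zero => rw [mul_zero, expand_zero, mul_zero]
    | @homogeneous k b =>
      rw [expand_of_mem 𝒜 hT a.2, expand_of_mem 𝒜 hT b.2, expand_of_mem 𝒜 hT (SetLike.mul_mem_graded a.2 b.2),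
        PowerSeries.monomial_mul_monomial]
    | add b b' hb hb' => rw [mul_add, expand_add, expand_add, hb, hb', mul_add]
  | add a a' ha ha' => rw [add_mul, expand_add, expand_add, ha, ha', add_mul]

theorem expand_one : expand 𝒜 hT 1 = 1 :=
  (expand_of_mem 𝒜 hT (i := 0) SetLike.GradedOne.one_mem).trans (by rw [PowerSeries.monomial_zero_eq_C_apply, map_one])

/-- `expand` as a ring homomorphism -/
def expandHom : 𝒜.presheaf.obj (op T) →+* PowerSeries (𝒜.presheaf.obj (op T)) where
  toFun := expand 𝒜 hT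
  map_one' := expand_one 𝒜 hT
  map_mul' := expand_mul 𝒜 hT
  map_zero' := expand_zero 𝒜 hT
  map_add' := expand_add 𝒜 hT

@[simp] theorem coeff_expandHom (a : 𝒜.presheaf.obj (op T)) (n : ℕ) :
    PowerSeries.coeff n (expandHom 𝒜 hT a) = (DirectSum.decompose (𝒜.deg T hT) a n : 𝒜.presheaf.obj (op T)) :=
  coeff_expand 𝒜 hT a n

theorem map_res_expand {T' : X.Opens} (hT' : IsAffineOpen T') (h : T' ≤ T) (a : 𝒜.presheaf.obj (op T)) :
    PowerSeries.map (𝒜.presheaf.map (homOfLE h).op).hom (expandHom 𝒜 hT a) =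
      expandHom 𝒜 hT' (rres 𝒜 h a) := by
  ext n
  rw [PowerSeries.coeff_map, coeff_expandHom, coeff_expandHom]
  exact rres_decompose 𝒜 hT hT' h a n

variable {L : X.Modules} [Coh.IsQCoh L] (jL : L ⟶ 𝒜.toModule) (e : Γ(L, T))

/-- `r X ↦ r je X` -/
def twistHom : PowerSeries Γ(X, T) →+* PowerSeries (𝒜.presheaf.obj (op T)) :=
  (PowerSeries.rescale (jS jL T e)).comp (PowerSeries.map (𝒜.str.app (op T)).hom)

theorem coeff_twistHom (f : PowerSeries Γ(X, T)) (n : ℕ) :
    PowerSeries.coeff n (twistHom 𝒜 jL e f) =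
      (𝒜.str.app (op T)).hom (PowerSeries.coeff n f) * jS jL T e ^ n := by
  rw [twistHom, RingHom.comp_apply, PowerSeries.coeff_rescale, PowerSeries.coeff_map, mul_comm]

variable {𝒜 jL e} (hj : RelProj.IsGrSymAlg L 𝒜 jL) (he : GenOn L e)

include hT hj he in
theorem twistHom_injective : Function.Injective (twistHom 𝒜 jL e) := by
  refine (injective_iff_map_eq_zero _).mpr fun f hf => PowerSeries.ext fun n => ?_
  refine eq_zero_of_str_mul_pow hj hT he n ?_
  rw [← coeff_twistHom, hf, map_zero]

include hT hj he in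
theorem exists_twistHom_eq (a : 𝒜.presheaf.obj (op T)) :
    ∃ f, twistHom 𝒜 jL e f = expandHom 𝒜 hT a := by
  choose r hr using fun n =>
    exists_gen_coeff hj hT he (SetLike.coe_mem (DirectSum.decompose (𝒜.deg T hT) a n))
  refine ⟨PowerSeries.mk r, PowerSeries.ext fun n => ?_⟩
  rw [coeff_twistHom, PowerSeries.coeff_mk, coeff_expandHom, ← hr n]

/-- coordinates with respect to a generator -/
def coordsFun (a : 𝒜.presheaf.obj (op T)) : PowerSeries Γ(X, T) := (exists_twistHom_eq hT hj he a).choose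

theorem twistHom_coordsFun (a : 𝒜.presheaf.obj (op T)) :
    twistHom 𝒜 jL e (coordsFun hT hj he a) = expandHom 𝒜 hT a := (exists_twistHom_eq hT hj he a).choose_spec

/-- the ring homomorphism of coordinates -/
def coords : 𝒜.presheaf.obj (op T) →+* PowerSeries Γ(X, T) where
  toFun := coordsFun hT hj he
  map_one' := twistHom_injective hT hj he (by rw [twistHom_coordsFun, map_one, map_one])
  map_mul' a b := twistHom_injective hT hj he
    (by rw [map_mul (twistHom 𝒜 jL e), twistHom_coordsFun, twistHom_coordsFun, twistHom_coordsFun, map_mul])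
  map_zero' := twistHom_injective hT hj he (by rw [twistHom_coordsFun, map_zero, map_zero])
  map_add' a b := twistHom_injective hT hj he
    (by rw [map_add (twistHom 𝒜 jL e), twistHom_coordsFun, twistHom_coordsFun, twistHom_coordsFun, map_add])

theorem twistHom_coords (a : 𝒜.presheaf.obj (op T)) :
    twistHom 𝒜 jL e (coords hT hj he a) = expandHom 𝒜 hT a := twistHom_coordsFun hT hj he a

theorem coords_str (r : Γ(X, T)) : coords hT hj he ((𝒜.str.app (op T)).hom r) = PowerSeries.C r := by
  refine twistHom_injective hT hj he ((twistHom_coords hT hj he _).trans (PowerSeries.ext fun n => ?_))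
  rw [coeff_twistHom, coeff_expandHom, PowerSeries.coeff_C]
  by_cases hn : n = 0
  · subst hn
    rw [if_pos rfl, pow_zero, mul_one]
    exact DirectSum.decompose_of_mem_same _ (𝒜.str_mem T hT r)
  · rw [if_neg hn, map_zero, zero_mul]
    exact DirectSum.decompose_of_mem_ne _ (𝒜.str_mem T hT r) (Ne.symm hn)

theorem coords_gen : coords hT hj he (jS jL T e) = PowerSeries.X := by
  refine twistHom_injective hT hj he ((twistHom_coords hT hj he _).trans (PowerSeries.ext fun n => ?_))
  rw [coeff_twistHom, coeff_expandHom, PowerSeries.coeff_X]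
  by_cases hn : n = 1
  · subst hn
    rw [if_pos rfl, map_one, one_mul, pow_one]
    exact DirectSum.decompose_of_mem_same _ (hj.2 T hT e)
  · rw [if_neg hn, map_zero, zero_mul]
    exact DirectSum.decompose_of_mem_ne _ (hj.2 T hT e) (Ne.symm hn)

variable {aug : 𝒜.toQCAlg ⟶ RelSpec.QCAlg.unit X} (h0 : RelCone.StrZeroBij 𝒜)
  (haug : RelCone.IsAugmentation 𝒜 aug)

include h0 haug in
theorem decompose_zero (a : 𝒜.presheaf.obj (op T)) :
    (DirectSum.decompose (𝒜.deg T hT) a 0 : 𝒜.presheaf.obj (op T)) =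
      (𝒜.str.app (op T)).hom ((aug.hom.app (op T)).hom a) := by
  let r := (aug.hom.app (op T)).hom a
  let s : 𝒜.presheaf.obj (op T) := (𝒜.str.app (op T)).hom r
  have h1 : a - s ∈ RingHom.ker (aug.hom.app (op T)).hom := by
    rw [RingHom.mem_ker, map_sub, sub_eq_zero]
    exact (RelConeLib.aug_str (aug := aug) T r).symm
  rw [RelConeLib.ker_aug h0 haug hT] at h1
  have h2 : (DirectSum.decompose (𝒜.deg T hT) (a - s) 0 : 𝒜.presheaf.obj (op T)) = 0 := h1
  rw [DirectSum.decompose_sub, DirectSum.sub_apply, AddSubgroupClass.coe_sub, sub_eq_zero] at h2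
  exact h2.trans (DirectSum.decompose_of_mem_same _ (𝒜.str_mem T hT r))

include h0 haug in
theorem constantCoeff_coords (a : 𝒜.presheaf.obj (op T)) :
    PowerSeries.constantCoeff (coords hT hj he a) = (aug.hom.app (op T)).hom a := by
  rw [← sub_eq_zero]
  refine eq_zero_of_str_mul_pow hj hT he 0 ?_
  have h := congrArg (PowerSeries.coeff 0) (twistHom_coords hT hj he a)
  rw [coeff_twistHom, coeff_expandHom, decompose_zero hT h0 haug, pow_zero, mul_one,
    PowerSeries.coeff_zero_eq_constantCoeff] at h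
  rw [pow_zero, mul_one, map_sub, h, sub_self]

include h0 haug in
theorem isUnit_coords {b : 𝒜.presheaf.obj (op T)} (hb : IsUnit ((aug.hom.app (op T)).hom b)) :
    IsUnit (coords hT hj he b) :=
  PowerSeries.isUnit_iff_constantCoeff.mpr ((constantCoeff_coords hT hj he h0 haug b).symm ▸ hb)

/-- evaluation of the coordinates at a point -/
def evalPt (s : Ideal Γ(X, T)) : 𝒜.presheaf.obj (op T) →+* PowerSeries (Γ(X, T) ⧸ s) :=
  (PowerSeries.map (Ideal.Quotient.mk s)).comp (coords hT hj he)

/-- the generic point of the line over a point -/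
def linePt (s : Spec Γ(X, T)) : Spec (𝒜.presheaf.obj (op T)) :=
  ⟨RingHom.ker (evalPt hT hj he s.asIdeal), by
    haveI := s.isPrime
    exact RingHom.ker_isPrime _⟩

theorem mem_linePt (s : Spec Γ(X, T)) (a : 𝒜.presheaf.obj (op T)) :
    a ∈ (linePt hT hj he s).asIdeal ↔ ∀ n, PowerSeries.coeff n (coords hT hj he a) ∈ s.asIdeal := by
  show a ∈ RingHom.ker _ ↔ _
  rw [RingHom.mem_ker, PowerSeries.ext_iff]
  refine forall_congr' fun n => ?_
  rw [map_zero, evalPt, RingHom.comp_apply, PowerSeries.coeff_map, Ideal.Quotient.eq_zero_iff_mem]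

theorem str_mem_linePt (s : Spec Γ(X, T)) (r : Γ(X, T)) :
    (𝒜.str.app (op T)).hom r ∈ (linePt hT hj he s).asIdeal ↔ r ∈ s.asIdeal := by
  rw [mem_linePt]
  refine ⟨fun h => ?_, fun h n => ?_⟩
  · simpa [coords_str] using h 0
  · rw [coords_str, PowerSeries.coeff_C]
    split_ifs
    · exact h
    · exact zero_mem _

theorem gen_notMem_linePt (s : Spec Γ(X, T)) : jS jL T e ∉ (linePt hT hj he s).asIdeal := by
  intro h
  have h1 := (mem_linePt hT hj he s _).mp h 1
  rw [coords_gen, PowerSeries.coeff_one_X] at h1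
  exact s.isPrime.ne_top ((Ideal.eq_top_iff_one _).mpr h1)

include h0 haug in
theorem notMem_linePt_of_aug (s : Spec Γ(X, T)) {b : 𝒜.presheaf.obj (op T)}
    (hb : (aug.hom.app (op T)).hom b ∉ s.asIdeal) : b ∉ (linePt hT hj he s).asIdeal := fun h => by
  refine hb ?_
  rw [← constantCoeff_coords hT hj he h0 haug, ← PowerSeries.coeff_zero_eq_constantCoeff_apply]
  exact (mem_linePt hT hj he s b).mp h 0

theorem comap_str_linePt (s : Spec Γ(X, T)) :
    Spec.map (𝒜.str.app (op T)) (linePt hT hj he s) = s := by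
  refine PrimeSpectrum.ext (Ideal.ext fun r => ?_)
  exact str_mem_linePt hT hj he s r

theorem π_linePt (s : Spec Γ(X, T)) :
    𝒜.toQCAlg.π (𝒜.toQCAlg.ι T hT (linePt hT hj he s)) = hT.fromSpec s := by
  rw [← Scheme.Hom.comp_apply, 𝒜.toQCAlg.ι_π, Scheme.Hom.comp_apply]
  exact congrArg hT.fromSpec (comap_str_linePt hT hj he s)

theorem linePt_mem_pointedCone (s : Spec Γ(X, T)) :
    𝒜.toQCAlg.ι T hT (linePt hT hj he s) ∈ RelCone.pointedCone 𝒜 := by
  show linePt hT hj he s ∈ 𝒜.toQCAlg.ι T hT ⁻¹ᵁ RelCone.pointedCone 𝒜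
  rw [RelConeLib.ι_preimage_pointedCone 𝒜 hT, RelConeLib.mem_vertexCompl]
  exact fun h => gen_notMem_linePt hT hj he s (h (HomogeneousIdeal.mem_irrelevant_of_mem _ one_pos (hj.2 T hT e)))

end EGA2ContractLib

end
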