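import Mathlib
import Groth.Agent.EGA2ContractLib.Taylor
import Groth.Agent.MiscFlat6.RelAmpleLocal

/-!
# A contraction of the zero section forces relative ampleness
-/

set_option autoImplicit false
universe u

open CategoryTheory CategoryTheory.Limits AlgebraicGeometry TopologicalSpace Opposite
open AmpleLib (res GenOn GenAt)
open EGA2SymLib

noncomputable section

namespace EGA2ContractLib

variable {X C : Scheme.{u}} {L : X.Modules} [Coh.IsQCoh L] {𝒜 : RelProj.QCGrAlg X} {jL : L ⟶ 𝒜.toModule}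
  (hL : PicF.IsInvertible L) (hj : RelProj.IsGrSymAlg L 𝒜 jL) (h0 : RelCone.StrZeroBij 𝒜)
  {aug : 𝒜.toQCAlg ⟶ RelSpec.QCAlg.unit X} (haug : RelCone.IsAugmentation 𝒜 aug)
  {j0 : X ⟶ 𝒜.toQCAlg.spec} (hj0 : RelCone.IsVertex 𝒜 aug j0)
  {q : 𝒜.toQCAlg.spec ⟶ C} {A : C.Opens} {hA : IsAffineOpen A}

/-- a neighbourhood of the zero section over a trivializing affine open, sent into `A` -/
structure Chart (L : X.Modules) (aug : 𝒜.toQCAlg ⟶ RelSpec.QCAlg.unit X) (q : 𝒜.toQCAlg.spec ⟶ C)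
    (hA : IsAffineOpen A) where
  /-- the open -/
  T : X.Opens
  hT : IsAffineOpen T
  /-- the generator -/
  e : Γ(L, T)
  he : GenOn L e
  /-- the denominator -/
  b : 𝒜.presheaf.obj (op T)
  hb : IsUnit ((aug.hom.app (op T)).hom b)
  /-- the map on sections -/
  μ : Γ(C, A) ⟶ CommRingCat.of (Localization.Away b)
  hμ : Spec.map μ ≫ hA.fromSpec =
    Spec.map (CommRingCat.ofHom (algebraMap (𝒜.presheaf.obj (op T)) (Localization.Away b))) ≫
      𝒜.toQCAlg.ι T hT ≫ q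

include hj0 in
theorem vertex_pt {T : X.Opens} (hT : IsAffineOpen T) (s : Spec Γ(X, T)) :
    𝒜.toQCAlg.ι T hT (Spec.map (aug.hom.app (op T)) s) = j0 (hT.fromSpec s) :=
  (congrArg (fun f => f s) (congrArg (fun g : Spec Γ(X, T) ⟶ 𝒜.toQCAlg.spec => g.base) (hj0.chart T hT))).symm

include hL hj0 in
theorem exists_chart {O : X.Opens} (hO : O ≤ (j0 ≫ q) ⁻¹ᵁ A) {x : X} (hx : x ∈ O) :
    ∃ c : Chart L aug q hA, x ∈ c.T ∧ c.T ≤ O := by
  obtain ⟨U, e, hxU, he⟩ := TwistLib.exists_genOn hL x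
  obtain ⟨T, hT, hxT, hle⟩ := exists_isAffineOpen_mem_and_subset (X := X) (x := x) (U := O ⊓ U) ⟨hx, hxU⟩
  have hTO : T ≤ O := fun y hy => (hle hy).1
  obtain ⟨s, rfl⟩ : x ∈ Set.range hT.fromSpec := by rw [hT.range_fromSpec]; exact hxT
  let k := 𝒜.toQCAlg.ι T hT ≫ q
  have hz : Spec.map (aug.hom.app (op T)) s ∈ k ⁻¹ᵁ A := by
    show q (𝒜.toQCAlg.ι T hT _) ∈ A
    rw [vertex_pt hj0]
    exact hO hx
  obtain ⟨_, ⟨_, ⟨b₀, rfl⟩, rfl⟩, hb₀, hbA⟩ :=
    PrimeSpectrum.isBasis_basic_opens.exists_subset_of_mem_open hz (k ⁻¹ᵁ A).2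
  let a₀ : Γ(X, T) := (aug.hom.app (op T)).hom b₀
  have hxT' : hT.fromSpec s ∈ X.basicOpen a₀ := by
    show s ∈ hT.fromSpec ⁻¹ᵁ X.basicOpen a₀
    rw [hT.fromSpec_preimage_basicOpen]
    exact hb₀
  let T' := X.basicOpen a₀
  have hle' : T' ≤ T := X.basicOpen_le a₀
  let b : 𝒜.presheaf.obj (op T') := rres 𝒜 hle' b₀
  have hb : IsUnit ((aug.hom.app (op T')).hom b) := by
    rw [show (aug.hom.app (op T')).hom b = (X.presheaf.map (homOfLE hle').op).hom a₀ from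
      congr($(aug.hom.naturality (homOfLE hle').op) b₀)]
    exact X.toRingedSpace.isUnit_res_basicOpen a₀
  let g := Spec.map (CommRingCat.ofHom (algebraMap (𝒜.presheaf.obj (op T')) (Localization.Away b))) ≫
    𝒜.toQCAlg.ι T' (hT.basicOpen a₀) ≫ q
  have hrange : Set.range g ⊆ Set.range hA.fromSpec := by
    rw [hA.range_fromSpec]
    rintro _ ⟨t, rfl⟩
    let w := Spec.map (CommRingCat.ofHom (algebraMap (𝒜.presheaf.obj (op T')) (Localization.Away b))) t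
    have hw : b ∉ w.asIdeal :=
      (PrimeSpectrum.localization_away_comap_range (Localization.Away b) b).le ⟨t, rfl⟩
    have h1 : Spec.map (𝒜.presheaf.map (homOfLE hle').op) w ∈ k ⁻¹ᵁ A := hbA hw
    have h2 : k (Spec.map (𝒜.presheaf.map (homOfLE hle').op) w) = q (𝒜.toQCAlg.ι T' (hT.basicOpen a₀) w) := by
      show q (𝒜.toQCAlg.ι T hT (Spec.map _ w)) = _
      rw [← Scheme.Hom.comp_apply _ (𝒜.toQCAlg.ι T hT),
        RelConeLib.ι_res_le 𝒜.toQCAlg hT (hT.basicOpen a₀) hle']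
    show q (𝒜.toQCAlg.ι T' (hT.basicOpen a₀) w) ∈ A
    rw [← h2]
    exact h1
  refine ⟨⟨T', hT.basicOpen a₀, res L (hle'.trans fun y hy => (hle hy).2) e, he.res _, b, hb,
    Spec.preimage (IsOpenImmersion.lift hA.fromSpec g hrange), ?_⟩, hxT', hle'.trans hTO⟩
  rw [Spec.map_preimage]
  exact IsOpenImmersion.lift_fac _ _ _

variable (c : Chart L aug q hA) (h : Γ(C, A))

/-- `a / b ^ m` represents `h` -/
def IsFrac (a : 𝒜.presheaf.obj (op c.T)) (m : ℕ) : Prop :=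
  c.μ.hom h * algebraMap _ (Localization.Away c.b) c.b ^ m = algebraMap _ (Localization.Away c.b) a

theorem exists_frac : ∃ a m, IsFrac c h a m := by
  obtain ⟨⟨a, _, m, rfl⟩, ha⟩ := IsLocalization.surj (Submonoid.powers c.b) (c.μ.hom h)
  exact ⟨a, m, (congrArg (c.μ.hom h * ·) (map_pow _ _ _).symm).trans ha⟩

/-- the coefficients of `h` along the line -/
def IsSeries (γ : PowerSeries Γ(X, c.T)) : Prop :=
  ∃ a m, IsFrac c h a m ∧ γ * coords c.hT hj c.he c.b ^ m = coords c.hT hj c.he a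

include h0 haug in
theorem exists_series : ∃ γ, IsSeries hj c h γ := by
  obtain ⟨a, m, ha⟩ := exists_frac c h
  obtain ⟨u, hu⟩ := (isUnit_coords c.hT hj c.he h0 haug c.hb).pow m
  exact ⟨coords c.hT hj c.he a * ↑u⁻¹, a, m, ha, by rw [← hu, mul_assoc, Units.inv_mul, mul_one]⟩

theorem q_mem_basicOpen_iff {a : 𝒜.presheaf.obj (op c.T)} {m : ℕ} (ha : IsFrac c h a m)
    (w : Spec (𝒜.presheaf.obj (op c.T))) (hw : c.b ∉ w.asIdeal) :
    q (𝒜.toQCAlg.ι c.T c.hT w) ∈ C.basicOpen h ↔ a ∉ w.asIdeal := by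
  obtain ⟨t, ht⟩ := (PrimeSpectrum.localization_away_comap_range (Localization.Away c.b) c.b).ge hw
  have e : q (𝒜.toQCAlg.ι c.T c.hT w) = hA.fromSpec (Spec.map c.μ t) :=
    ((congrArg (fun f => f t) (congrArg (fun g : Spec (CommRingCat.of (Localization.Away c.b)) ⟶ C => g.base)
      c.hμ)).trans (congrArg (fun z => q (𝒜.toQCAlg.ι c.T c.hT z)) ht)).symm
  rw [e]
  show Spec.map c.μ t ∈ hA.fromSpec ⁻¹ᵁ C.basicOpen h ↔ _
  rw [hA.fromSpec_preimage_basicOpen]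
  show c.μ.hom h ∉ t.asIdeal ↔ _
  rw [← ht]
  show _ ↔ algebraMap _ (Localization.Away c.b) a ∉ t.asIdeal
  rw [← ha]
  have hu : algebraMap _ (Localization.Away c.b) c.b ^ m ∉ t.asIdeal := fun hm =>
    t.isPrime.ne_top (Ideal.eq_top_of_isUnit_mem _ hm ((IsLocalization.Away.algebraMap_isUnit c.b).pow m))
  exact ⟨fun h1 h2 => (t.isPrime.mem_or_mem h2).elim h1 hu, fun h1 h2 => h1 (t.asIdeal.mul_mem_right _ h2)⟩

include h0 haug in
theorem mem_linePt_iff {γ : PowerSeries Γ(X, c.T)} {a : 𝒜.presheaf.obj (op c.T)} {m : ℕ}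
    (hγ : γ * coords c.hT hj c.he c.b ^ m = coords c.hT hj c.he a) (s : Spec Γ(X, c.T)) :
    a ∈ (linePt c.hT hj c.he s).asIdeal ↔ ∀ n, PowerSeries.coeff n γ ∈ s.asIdeal := by
  let ev := PowerSeries.map (Ideal.Quotient.mk s.asIdeal)
  have h1 : a ∈ (linePt c.hT hj c.he s).asIdeal ↔ ev (coords c.hT hj c.he a) = 0 := RingHom.mem_ker
  have hu : IsUnit (ev (coords c.hT hj c.he c.b ^ m)) :=
    ((isUnit_coords c.hT hj c.he h0 haug c.hb).pow m).map _
  rw [h1, ← hγ, map_mul, hu.mul_left_eq_zero, PowerSeries.ext_iff]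
  refine forall_congr' fun n => ?_
  rw [map_zero, PowerSeries.coeff_map, Ideal.Quotient.eq_zero_iff_mem]

/-- restriction of the series to a smaller open, inside the algebra -/
def seriesRes {T' : X.Opens} (hle : T' ≤ c.T) (γ : PowerSeries Γ(X, c.T)) :
    PowerSeries (𝒜.presheaf.obj (op T')) :=
  PowerSeries.map (𝒜.presheaf.map (homOfLE hle).op).hom (twistHom 𝒜 jL c.e γ)

theorem seriesRes_mul {T' : X.Opens} (hT' : IsAffineOpen T') (hle : T' ≤ c.T) {γ : PowerSeries Γ(X, c.T)}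
    {a : 𝒜.presheaf.obj (op c.T)} {m : ℕ}
    (hγ : γ * coords c.hT hj c.he c.b ^ m = coords c.hT hj c.he a) :
    seriesRes (jL := jL) c hle γ * expandHom 𝒜 hT' (rres 𝒜 hle c.b) ^ m =
      expandHom 𝒜 hT' (rres 𝒜 hle a) := by
  rw [← map_res_expand 𝒜 c.hT hT' hle, ← map_res_expand 𝒜 c.hT hT' hle, ← twistHom_coords c.hT hj c.he,
    ← twistHom_coords c.hT hj c.he, seriesRes, ← map_pow, ← map_pow, ← map_mul, ← map_mul, hγ]

include h0 haug hj in
theorem seriesRes_eq (c' : Chart L aug q hA) {T' : X.Opens} (hT' : IsAffineOpen T') (hle : T' ≤ c.T)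
    (hle' : T' ≤ c'.T) {γ : PowerSeries Γ(X, c.T)} {γ' : PowerSeries Γ(X, c'.T)}
    (hγ : IsSeries hj c h γ) (hγ' : IsSeries hj c' h γ') :
    seriesRes (jL := jL) c hle γ = seriesRes (jL := jL) c' hle' γ' := by
  obtain ⟨a, m, ha, hγ⟩ := hγ
  obtain ⟨a', m', ha', hγ'⟩ := hγ'
  let R := 𝒜.presheaf.obj (op T')
  let b := rres 𝒜 hle c.b
  let b' := rres 𝒜 hle' c'.b
  let M := Localization.Away (b * b')
  let al := algebraMap R M
  have hbb : IsUnit (al b * al b') := by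
    rw [← map_mul]; exact IsLocalization.Away.algebraMap_isUnit _
  let ρ : Localization.Away c.b →+* M := IsLocalization.Away.lift c.b
    (g := al.comp (𝒜.presheaf.map (homOfLE hle).op).hom) (isUnit_of_mul_isUnit_left hbb)
  let ρ' : Localization.Away c'.b →+* M := IsLocalization.Away.lift c'.b
    (g := al.comp (𝒜.presheaf.map (homOfLE hle').op).hom) (isUnit_of_mul_isUnit_right hbb)
  have hρ : ∀ z, ρ (algebraMap _ _ z) = al (rres 𝒜 hle z) := fun z => IsLocalization.Away.lift_eq c.b _ z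
  have hρ' : ∀ z, ρ' (algebraMap _ _ z) = al (rres 𝒜 hle' z) := fun z => IsLocalization.Away.lift_eq c'.b _ z
  have e : c.μ ≫ CommRingCat.ofHom ρ = c'.μ ≫ CommRingCat.ofHom ρ' := by
    refine Spec.map_injective ?_
    rw [← cancel_mono hA.fromSpec, Spec.map_comp, Spec.map_comp, Category.assoc, Category.assoc, c.hμ, c'.hμ,
      ← Spec.map_comp_assoc, ← Spec.map_comp_assoc,
      show CommRingCat.ofHom (algebraMap _ (Localization.Away c.b)) ≫ CommRingCat.ofHom ρ =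
        𝒜.presheaf.map (homOfLE hle).op ≫ CommRingCat.ofHom al from CommRingCat.hom_ext (RingHom.ext hρ),
      show CommRingCat.ofHom (algebraMap _ (Localization.Away c'.b)) ≫ CommRingCat.ofHom ρ' =
        𝒜.presheaf.map (homOfLE hle').op ≫ CommRingCat.ofHom al from CommRingCat.hom_ext (RingHom.ext hρ'),
      Spec.map_comp_assoc, Spec.map_comp_assoc, ← Category.assoc (Spec.map (𝒜.presheaf.map (homOfLE hle).op)),
      ← Category.assoc (Spec.map (𝒜.presheaf.map (homOfLE hle').op)),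
      RelConeLib.ι_res_le 𝒜.toQCAlg c.hT hT' hle, RelConeLib.ι_res_le 𝒜.toQCAlg c'.hT hT' hle']
  have eh : ρ (c.μ.hom h) = ρ' (c'.μ.hom h) := congr($e h)
  have h1 : ρ (c.μ.hom h) * al b ^ m = al (rres 𝒜 hle a) := by
    rw [← hρ, ← hρ, ← map_pow, ← map_mul]; exact congrArg ρ ha
  have h2 : ρ' (c'.μ.hom h) * al b' ^ m' = al (rres 𝒜 hle' a') := by
    rw [← hρ', ← hρ', ← map_pow, ← map_mul]; exact congrArg ρ' ha'
  have h3 : al (rres 𝒜 hle a * b' ^ m') = al (rres 𝒜 hle' a' * b ^ m) := by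
    rw [map_mul, map_mul, ← h1, ← h2, eh, map_pow, map_pow]; ring
  obtain ⟨⟨_, N, rfl⟩, hN⟩ := IsLocalization.exists_of_eq (M := Submonoid.powers (b * b')) (S := M) h3
  let E := expandHom 𝒜 hT'
  have hunit : ∀ (d : Chart L aug q hA) (hd : T' ≤ d.T), IsUnit (E (rres 𝒜 hd d.b)) := fun d hd => by
    show IsUnit (expandHom 𝒜 hT' (rres 𝒜 hd d.b))
    rw [← map_res_expand 𝒜 d.hT hT' hd, ← twistHom_coords d.hT hj d.he]
    exact ((isUnit_coords d.hT hj d.he h0 haug d.hb).map _).map _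
  have hu : IsUnit (E b) := hunit c hle
  have hu' : IsUnit (E b') := hunit c' hle'
  have h4 : E (rres 𝒜 hle a) * E b' ^ m' = E (rres 𝒜 hle' a') * E b ^ m := by
    have := congrArg E hN
    simp only [map_mul, map_pow] at this
    exact ((hu.mul hu').pow N).mul_left_cancel this
  refine ((hu.pow m).mul (hu'.pow m')).mul_right_cancel ?_
  have g1 : seriesRes (jL := jL) c hle γ * E b ^ m = E (rres 𝒜 hle a) := seriesRes_mul hj c hT' hle hγ
  have g2 : seriesRes (jL := jL) c' hle' γ' * E b' ^ m' = E (rres 𝒜 hle' a') := seriesRes_mul hj c' hT' hle' hγ'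
  rw [← mul_assoc, g1, h4, ← g2]
  ring

include hL hj h0 haug hj0 in
/-- the coefficients are sections of the powers of `L` -/
theorem exists_coeff_section (h : Γ(C, A)) {O : X.Opens} (hO : O ≤ (j0 ≫ q) ⁻¹ᵁ A) (n : ℕ) :
    ∃ σ : Γ(CohB1.tensorPow L n, O), ∀ (c : Chart L aug q hA), c.T ≤ O → ∀ (γ : PowerSeries Γ(X, c.T)),
      IsSeries hj c h γ → ∀ (x : X) (hx : x ∈ O), x ∈ c.T →
        (GenAt (CohB1.tensorPow L n) σ hx ↔ x ∈ X.basicOpen (PowerSeries.coeff n γ)) := by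
  let I := {c : Chart L aug q hA // c.T ≤ O}
  choose γ hγ using fun c : I => exists_series hj h0 haug c.1 h
  have hcov : O ≤ ⨆ c : I, c.1.T := fun x hx => by
    obtain ⟨c, hxc, hc⟩ := exists_chart hL hj0 (hA := hA) hO hx
    exact Opens.mem_iSup.mpr ⟨⟨c, hc⟩, hxc⟩
  let val : ∀ c : I, 𝒜.presheaf.obj (op c.1.T) := fun c => PowerSeries.coeff n (twistHom 𝒜 jL c.1.e (γ c))
  have hcompat : ∀ (c : I) (c' : Chart L aug q hA) (γ' : PowerSeries Γ(X, c'.T)), IsSeries hj c' h γ' →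
      ∀ (W : X.Opens) (hW : W ≤ c.1.T) (hW' : W ≤ c'.T),
        rres 𝒜 hW (val c) = rres 𝒜 hW' (PowerSeries.coeff n (twistHom 𝒜 jL c'.e γ')) := by
    intro c c' γ' hγ' W hW hW'
    refine sV_ext (𝒮L := 𝒜) fun y hy => ?_
    obtain ⟨T', hT', hyT', hle⟩ := exists_isAffineOpen_mem_and_subset (X := X) (x := y) (U := W) hy
    refine ⟨T', hle, hyT', ?_⟩
    show rres 𝒜 hle (rres 𝒜 hW _) = rres 𝒜 hle (rres 𝒜 hW' _)
    rw [rres_rres, rres_rres]
    have := congrArg (PowerSeries.coeff n)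
      (seriesRes_eq hj h0 haug c.1 h c' hT' (hle.trans hW) (hle.trans hW') (hγ c) hγ')
    rw [seriesRes, seriesRes, PowerSeries.coeff_map, PowerSeries.coeff_map] at this
    exact this
  obtain ⟨τ, hτ, -⟩ := TopCat.Sheaf.existsUnique_gluing' (X := X.toTopCat)
    (⟨𝒜.toModule.presheaf, 𝒜.toModule.isSheaf⟩ : TopCat.Sheaf AddCommGrpCat _) (fun c : I => c.1.T)
    O (fun c => homOfLE c.2) hcov (fun c => (show Γ(𝒜.toModule, c.1.T) from val c))
    (fun c c' => hcompat c c'.1 (γ c') (hγ c') _ inf_le_left inf_le_right)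
  have hdeg : DegMem 𝒜 n O τ := degMem_local 𝒜 n _ fun y hy => by
    obtain ⟨c, hyc⟩ := Opens.mem_iSup.mp (hcov hy)
    refine ⟨c.1.T, c.2, hyc, (degMem_affine 𝒜 n c.1.hT _).mpr ?_⟩
    rw [show rres 𝒜 c.2 τ = val c from hτ c]
    show PowerSeries.coeff n (twistHom 𝒜 jL c.1.e (γ c)) ∈ _
    rw [coeff_twistHom]
    exact degMem_pow_gen hj c.1.hT _ n _
  obtain ⟨σ, hσ⟩ := powMap_surjective hL hj n hdeg
  refine ⟨σ, fun c hc γ' hγ' x hx hxc => ?_⟩
  have hres : res _ hc σ = PowerSeries.coeff n γ' • AmpleThLib.pS c.e n := by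
    refine powMap_injective hL hj n c.T ?_
    rw [sV_res, hσ, powMap_coeff hL c.he, ← coeff_twistHom]
    refine sV_ext (𝒮L := 𝒜) fun y hy => ?_
    obtain ⟨d, hyd⟩ := Opens.mem_iSup.mp (hcov (hc hy))
    refine ⟨c.T ⊓ d.1.T, inf_le_left, ⟨hy, hyd⟩, ?_⟩
    refine Eq.trans ?_ (hcompat d c γ' hγ' _ inf_le_right inf_le_left)
    show rres 𝒜 _ (rres 𝒜 hc τ) = rres 𝒜 _ (val d)
    rw [← show rres 𝒜 d.2 τ = val d from hτ d, rres_rres, rres_rres]
  rw [← AmpleLib.genAt_res hc σ hxc, hres,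
    AmpleLib.genAt_smul_iff _ _ hxc ((AmpleThLib.pS_genOn c.he n).genAt hxc)]

include hL hj h0 haug hj0 in
/-- a contraction of the zero section which is an open immersion off it forces relative ampleness -/
theorem isRelAmple_of_contraction {Y : Scheme.{u}} (p : X ⟶ Y) [QuasiCompact p] (ε : Y ⟶ C)
    (hq0 : j0 ≫ q = p ≫ ε) {V0 : 𝒜.toQCAlg.spec.Opens}
    (hV0 : (V0 : Set 𝒜.toQCAlg.spec) = (Set.range j0.base)ᶜ) [IsOpenImmersion (V0.ι ≫ q)]
    (hdisj : Set.range (V0.ι ≫ q).base ∩ Set.range ε.base = ∅) :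
    RelAmple.IsRelAmple p L := by
  have hP : ∀ {z}, z ∈ RelCone.pointedCone 𝒜 → z ∈ V0 := fun {z} hz => by
    show z ∈ (V0 : Set _)
    rw [hV0, ← RelConeLib.compl_vertex h0 haug hj0]
    exact hz
  refine MiscFlat6.isRelAmple_of_local p fun y => ?_
  obtain ⟨A, hA, hyA, -⟩ := exists_isAffineOpen_mem_and_subset (X := C) (x := ε y) (U := ⊤) trivial
  refine ⟨ε ⁻¹ᵁ A, hyA, fun V hV hVA => isAmple_restrict_of_loci hL (p.isCompact_preimage hV.isCompact) fun x hx => ?_⟩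
  have hO : p ⁻¹ᵁ V ≤ (j0 ≫ q) ⁻¹ᵁ A := by rw [hq0]; exact fun z hz => hVA hz
  obtain ⟨U, eU, hxU, heU⟩ := TwistLib.exists_genOn hL x
  obtain ⟨W, hW, hxW, hWle⟩ := exists_isAffineOpen_mem_and_subset (X := X) (x := x) (U := p ⁻¹ᵁ V ⊓ U) ⟨hx, hxU⟩
  have hWO : W ≤ p ⁻¹ᵁ V := fun z hz => (hWle hz).1
  obtain ⟨c, hxc, hcO⟩ := exists_chart hL hj0 (hA := hA) hO hx
  obtain ⟨s, rfl⟩ : x ∈ Set.range c.hT.fromSpec := by rw [c.hT.range_fromSpec]; exact hxc
  let η := 𝒜.toQCAlg.ι c.T c.hT (linePt c.hT hj c.he s)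
  have hmemA : ∀ (d : Chart L aug q hA) (w : Spec (𝒜.presheaf.obj (op d.T))), d.b ∉ w.asIdeal →
      q (𝒜.toQCAlg.ι d.T d.hT w) ∈ A := fun d w hw => by
    obtain ⟨t, ht⟩ := (PrimeSpectrum.localization_away_comap_range (Localization.Away d.b) d.b).ge hw
    refine hA.opensRange_fromSpec.le ⟨Spec.map d.μ t, (congrArg (fun f => f t)
      (congrArg (fun g : Spec (CommRingCat.of (Localization.Away d.b)) ⟶ C => g.base) d.hμ)).trans
      (congrArg (fun z => q (𝒜.toQCAlg.ι d.T d.hT z)) ht)⟩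
  have hb : ∀ (d : Chart L aug q hA) (s : Spec Γ(X, d.T)), d.b ∉ (linePt d.hT hj d.he s).asIdeal := fun d s =>
    notMem_linePt_of_aug d.hT hj d.he h0 haug s fun hm =>
      s.isPrime.ne_top (Ideal.eq_top_of_isUnit_mem _ hm d.hb)
  let Q : C.Opens := (V0.ι ≫ q) ''ᵁ (V0.ι ⁻¹ᵁ 𝒜.toQCAlg.π ⁻¹ᵁ W) ⊓ A
  have hηQ : q η ∈ Q := ⟨⟨⟨η, hP (linePt_mem_pointedCone c.hT hj c.he s)⟩, (show 𝒜.toQCAlg.π η ∈ W by rw [π_linePt c.hT hj c.he s]; exact hxW), rfl⟩,
    hmemA c _ (hb c s)⟩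
  obtain ⟨h, hhQ, hηh⟩ := hA.exists_basicOpen_le (V := Q) ⟨q η, hηQ⟩ hηQ.2
  obtain ⟨γ, a, m, ha, hγ⟩ := exists_series hj h0 haug c h
  have ha' : a ∉ (linePt c.hT hj c.he s).asIdeal := (q_mem_basicOpen_iff c h ha _ (hb c s)).mp hηh
  obtain ⟨n, hn⟩ := not_forall.mp (mt (mem_linePt_iff hj h0 haug c hγ s).mpr ha')
  have hn0 : 0 < n := Nat.pos_of_ne_zero fun h00 => by
    subst h00
    have hb0 : c.b ∉ (Spec.map (aug.hom.app (op c.T)) s).asIdeal := fun hm =>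
      s.isPrime.ne_top (Ideal.eq_top_of_isUnit_mem _ hm c.hb)
    have ha0 : a ∉ (Spec.map (aug.hom.app (op c.T)) s).asIdeal := fun hm => by
      change (aug.hom.app (op c.T)).hom a ∈ s.asIdeal at hm
      rw [← constantCoeff_coords c.hT hj c.he h0 haug, ← hγ, map_mul, map_pow,
        constantCoeff_coords c.hT hj c.he h0 haug, ← PowerSeries.coeff_zero_eq_constantCoeff_apply] at hm
      exact (s.isPrime.mem_or_mem hm).elim hn fun h' =>
        s.isPrime.ne_top (Ideal.eq_top_of_isUnit_mem _ h' (c.hb.pow m))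
    have h1 := (q_mem_basicOpen_iff c h ha _ hb0).mpr ha0
    rw [vertex_pt hj0, ← Scheme.Hom.comp_apply, hq0, Scheme.Hom.comp_apply] at h1
    obtain ⟨z, -, hz⟩ := (hhQ h1).1
    exact Set.eq_empty_iff_forall_notMem.mp hdisj _ ⟨⟨z, hz⟩, ⟨_, rfl⟩⟩
  obtain ⟨σ, hσ⟩ := exists_coeff_section hL hj h0 haug hj0 h hO n
  have hinW : ∀ (z : X) (hz : z ∈ p ⁻¹ᵁ V), GenAt (CohB1.tensorPow L n) σ hz → z ∈ W := by
    intro z hz hg
    obtain ⟨d, hzd, hdO⟩ := exists_chart hL hj0 (hA := hA) hO hz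
    obtain ⟨δ, b, k, hb', hδ⟩ := exists_series hj h0 haug d h
    have h1 := (hσ d hdO δ ⟨b, k, hb', hδ⟩ z hz hzd).mp hg
    obtain ⟨t, rfl⟩ : z ∈ Set.range d.hT.fromSpec := by rw [d.hT.range_fromSpec]; exact hzd
    have h2 : PowerSeries.coeff n δ ∉ t.asIdeal := by
      have h3 : t ∈ d.hT.fromSpec ⁻¹ᵁ X.basicOpen (PowerSeries.coeff n δ) := h1
      rw [d.hT.fromSpec_preimage_basicOpen] at h3
      exact h3
    have h4 := (q_mem_basicOpen_iff d h hb' _ (hb d t)).mpr fun hm =>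
      h2 ((mem_linePt_iff hj h0 haug d hδ t).mp hm n)
    obtain ⟨w, hwW, hw⟩ := (hhQ h4).1
    have h5 : w = (⟨_, hP (linePt_mem_pointedCone d.hT hj d.he t)⟩ : (V0 : Scheme.{u})) :=
      (V0.ι ≫ q).isOpenEmbedding.injective hw
    rw [h5] at hwW
    exact (π_linePt d.hT hj d.he t) ▸ hwW
  have heW : GenOn L (res L (fun z hz => (hWle hz).2 : W ≤ U) eU) := heU.res _
  obtain ⟨r, hr⟩ := (AmpleThLib.pS_genOn heW n W le_rfl).2 (res _ hWO σ)
  simp only [AmpleLib.res_refl] at hr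
  have hgr : ∀ (z : X) (hz : z ∈ W), GenAt (CohB1.tensorPow L n) σ (hWO hz) ↔ z ∈ X.basicOpen r := fun z hz => by
    rw [← AmpleLib.genAt_res hWO σ hz, ← hr,
      AmpleLib.genAt_smul_iff _ _ hz ((AmpleThLib.pS_genOn heW n).genAt hz)]
  refine ⟨n, σ, X.basicOpen r, hn0, ⟨(X.basicOpen_le r).trans hWO, fun z hz => ⟨fun hzr => ?_, fun hg => ?_⟩⟩, ?_,
    hW.basicOpen r⟩
  · exact (hgr z (X.basicOpen_le r hzr)).mpr hzr
  · exact (hgr z (hinW z hz hg)).mp hg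
  · refine (hgr _ hxW).mp ((hσ c hcO γ ⟨a, m, ha, hγ⟩ _ hx hxc).mpr ?_)
    show s ∈ c.hT.fromSpec ⁻¹ᵁ X.basicOpen _
    rw [c.hT.fromSpec_preimage_basicOpen]
    exact hn

end EGA2ContractLib

end
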