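import Mathlib
import Groth.Agent.EGA2SymLib.PushAlg
import Groth.Agent.RelConeLib.Cone

/-!
# The fibre product of the structure sheaf with an augmented direct image algebra
-/

set_option autoImplicit false
universe u

open CategoryTheory CategoryTheory.Limits AlgebraicGeometry TopologicalSpace Opposite

noncomputable section

namespace EGA2ContractLib

variable {X Y : Scheme.{u}} (p : X ⟶ Y) {A : RelSpec.QCAlg X} (aug : A ⟶ RelSpec.QCAlg.unit X)

/-- the augmentation on the preimage of an open -/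
def augOver (U : Y.Opens) : A.presheaf.obj (op (p ⁻¹ᵁ U)) →+* Γ(X, p ⁻¹ᵁ U) := (aug.hom.app (op (p ⁻¹ᵁ U))).hom

theorem augOver_str (U : Y.Opens) (r : Γ(X, p ⁻¹ᵁ U)) :
    augOver p aug U ((A.str.app (op (p ⁻¹ᵁ U))).hom r) = r :=
  RingHom.congr_fun (congrArg CommRingCat.Hom.hom (NatTrans.congr_app aug.comm (op (p ⁻¹ᵁ U)))) r

theorem augOver_res {U V : Y.Opens} (h : V ≤ U) (z : A.presheaf.obj (op (p ⁻¹ᵁ U))) :
    augOver p aug V ((A.presheaf.map (homOfLE (p.preimage_mono h)).op).hom z) =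
      (X.presheaf.map (homOfLE (p.preimage_mono h)).op).hom (augOver p aug U z) :=
  congr($(aug.hom.naturality (homOfLE (p.preimage_mono h)).op) z)

/-- compatible pairs -/
def pairs (U : Y.Opens) : Subring (Γ(Y, U) × A.presheaf.obj (op (p ⁻¹ᵁ U))) :=
  RingHom.eqLocus ((augOver p aug U).comp (RingHom.snd _ _)) ((p.app U).hom.comp (RingHom.fst _ _))

theorem mem_pairs {U : Y.Opens} {x : Γ(Y, U) × A.presheaf.obj (op (p ⁻¹ᵁ U))} :
    x ∈ pairs p aug U ↔ augOver p aug U x.2 = (p.app U).hom x.1 := Iff.rfl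

/-- restriction of pairs -/
def resPair {U V : Y.Opens} (h : V ≤ U) :
    Γ(Y, U) × A.presheaf.obj (op (p ⁻¹ᵁ U)) →+* Γ(Y, V) × A.presheaf.obj (op (p ⁻¹ᵁ V)) :=
  ((Y.presheaf.map (homOfLE h).op).hom.comp (RingHom.fst _ _)).prod
    ((A.presheaf.map (homOfLE (p.preimage_mono h)).op).hom.comp (RingHom.snd _ _))

theorem app_res {U V : Y.Opens} (h : V ≤ U) (r : Γ(Y, U)) :
    (p.app V).hom ((Y.presheaf.map (homOfLE h).op).hom r) =
      (X.presheaf.map (homOfLE (p.preimage_mono h)).op).hom ((p.app U).hom r) :=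
  congr($(p.naturality (homOfLE h).op) r)

theorem resPair_mem {U V : Y.Opens} (h : V ≤ U) {x : Γ(Y, U) × A.presheaf.obj (op (p ⁻¹ᵁ U))}
    (hx : x ∈ pairs p aug U) : resPair p (A := A) h x ∈ pairs p aug V := by
  show augOver p aug V ((A.presheaf.map (homOfLE (p.preimage_mono h)).op).hom x.2) =
    (p.app V).hom ((Y.presheaf.map (homOfLE h).op).hom x.1)
  rw [augOver_res p aug h, (mem_pairs p aug).mp hx, app_res p h]

/-- the presheaf of pairs -/
def fibPre : TopCat.Presheaf CommRingCat.{u} Y.carrier where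
  obj U := CommRingCat.of (pairs p aug U.unop)
  map {U V} i := CommRingCat.ofHom
    (((resPair p (A := A) (leOfHom i.unop)).comp (pairs p aug U.unop).subtype).codRestrict (pairs p aug V.unop)
      fun a => resPair_mem p aug _ a.2)
  map_id U := by
    refine CommRingCat.hom_ext (RingHom.ext fun a => Subtype.ext (Prod.ext ?_ ?_))
    · exact ConcreteCategory.congr_hom (Y.presheaf.map_id U) a.1.1
    · exact ConcreteCategory.congr_hom (A.presheaf.map_id (op (p ⁻¹ᵁ U.unop))) a.1.2
  map_comp {U V W} i i' := by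
    refine CommRingCat.hom_ext (RingHom.ext fun a => Subtype.ext (Prod.ext ?_ ?_))
    · exact ConcreteCategory.congr_hom (Y.presheaf.map_comp i i') a.1.1
    · exact ConcreteCategory.congr_hom (A.presheaf.map_comp
        (homOfLE (p.preimage_mono (leOfHom i.unop))).op (homOfLE (p.preimage_mono (leOfHom i'.unop))).op) a.1.2

theorem fibPre_isSheaf : (fibPre p aug).IsSheaf := by
  rw [TopCat.Presheaf.isSheaf_iff_isSheafUniqueGluing]
  intro ι U sf hsf
  obtain ⟨g, hg, hgu⟩ := TopCat.Sheaf.existsUnique_gluing Y.sheaf U (fun i => (sf i).1.1)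
    fun i k => congr_arg (fun z => z.1.1) (hsf i k)
  obtain ⟨z, hz, hzu⟩ := TopCat.Sheaf.existsUnique_gluing'
    (⟨A.presheaf, A.isSheaf⟩ : TopCat.Sheaf CommRingCat.{u} X.carrier) (fun i => p ⁻¹ᵁ U i) (p ⁻¹ᵁ iSup U)
    (fun i => homOfLE (p.preimage_mono (le_iSup U i)))
    (fun x hx => by
      obtain ⟨i, hi⟩ := Opens.mem_iSup.mp (show p x ∈ iSup U from hx)
      exact Opens.mem_iSup.mpr ⟨i, hi⟩)
    (fun i => (sf i).1.2) fun i k => congr_arg (fun z => z.1.2) (hsf i k)
  have hmem : ((g, z) : Γ(Y, iSup U) × A.presheaf.obj (op (p ⁻¹ᵁ iSup U))) ∈ pairs p aug (iSup U) := by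
    refine TopCat.Sheaf.eq_of_locally_eq' X.sheaf (fun i => p ⁻¹ᵁ U i) (p ⁻¹ᵁ iSup U)
      (fun i => homOfLE (p.preimage_mono (le_iSup U i))) (fun x hx => by
        obtain ⟨i, hi⟩ := Opens.mem_iSup.mp (show p x ∈ iSup U from hx)
        exact Opens.mem_iSup.mpr ⟨i, hi⟩) _ _ fun i => ?_
    have h1 := augOver_res p aug (le_iSup U i) z
    have h2 := app_res p (le_iSup U i) g
    refine h1.symm.trans (Eq.trans ?_ h2)
    rw [show (A.presheaf.map (homOfLE (p.preimage_mono (le_iSup U i))).op).hom z = (sf i).1.2 from hz i,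
      show (Y.presheaf.map (homOfLE (le_iSup U i)).op).hom g = (sf i).1.1 from hg i]
    exact (sf i).2
  refine ⟨⟨(g, z), hmem⟩, fun i => Subtype.ext (Prod.ext (hg i) (hz i)),
    fun y hy => Subtype.ext (Prod.ext (hgu y.1.1 fun i => congr_arg (fun z => z.1.1) (hy i))
      (hzu y.1.2 fun i => congr_arg (fun z => z.1.2) (hy i)))⟩

/-- the structure map -/
def fibStr : Y.presheaf ⟶ fibPre p aug where
  app U := CommRingCat.ofHom (((RingHom.id Γ(Y, U.unop)).prod
    ((A.str.app (op (p ⁻¹ᵁ U.unop))).hom.comp (p.app U.unop).hom)).codRestrict (pairs p aug U.unop)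
      fun r => augOver_str p aug U.unop _)
  naturality {U V} i := by
    refine CommRingCat.hom_ext (RingHom.ext fun r => Subtype.ext (Prod.ext rfl ?_))
    show (A.str.app (op (p ⁻¹ᵁ V.unop))).hom ((p.app V.unop).hom ((Y.presheaf.map (homOfLE (leOfHom i.unop)).op).hom r)) = _
    rw [app_res]
    exact congr($(A.str.naturality (homOfLE (p.preimage_mono (leOfHom i.unop))).op) ((p.app U.unop).hom r))

variable [QuasiCompact p] [QuasiSeparated p]

/-- the fibre product algebra -/
def fibAlg : RelSpec.QCAlg Y where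
  presheaf := fibPre p aug
  isSheaf := fibPre_isSheaf p aug
  str := fibStr p aug
  isQC U hU r := by
    let hle := Y.basicOpen_le r
    let hle' := p.preimage_mono hle
    let _inst := ((fibPre p aug).map (homOfLE hle).op).hom.toAlgebra
    let _i1 := (Y.presheaf.map (homOfLE hle).op).hom.toAlgebra
    let _i2 := (A.presheaf.map (homOfLE hle').op).hom.toAlgebra
    let _i3 := (X.presheaf.map (homOfLE hle').op).hom.toAlgebra
    have hY : IsLocalization.Away r Γ(Y, Y.basicOpen r) := hU.isLocalization_basicOpen r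
    have hcX := p.isCompact_preimage hU.isCompact
    have hsX := p.isQuasiSeparated_preimage hU.isQuasiSeparated
    let ρ := (p.app U).hom r
    have hX : IsLocalization.Away ρ Γ(X, p ⁻¹ᵁ Y.basicOpen r) :=
      EGA2SymLib.isLocalization_of_qcqs (RelSpec.QCAlg.unit X) hcX hsX ρ (p.preimage_basicOpen r) hle'
    have hA : IsLocalization.Away ((A.str.app (op (p ⁻¹ᵁ U))).hom ρ) (A.presheaf.obj (op (p ⁻¹ᵁ Y.basicOpen r))) :=
      EGA2SymLib.isLocalization_of_qcqs A hcX hsX ρ (p.preimage_basicOpen r) hle'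
    let s : A.presheaf.obj (op (p ⁻¹ᵁ U)) := (A.str.app (op (p ⁻¹ᵁ U))).hom ρ
    refine (isLocalization_iff _ _).mpr ⟨?_, fun z => ?_, fun {x y} hxy => ?_⟩
    · rintro ⟨_, k, rfl⟩
      show IsUnit (((fibPre p aug).map (homOfLE hle).op).hom ((((fibStr p aug).app (op U)).hom r) ^ k))
      rw [map_pow]
      refine IsUnit.pow k ?_
      have h1 := ((Y.toRingedSpace.isUnit_res_basicOpen r).map ((fibStr p aug).app (op (Y.basicOpen r))).hom)
      have h2 : ((fibPre p aug).map (homOfLE hle).op).hom (((fibStr p aug).app (op U)).hom r) =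
          ((fibStr p aug).app (op (Y.basicOpen r))).hom ((Y.presheaf.map (homOfLE hle).op).hom r) :=
        (congr($((fibStr p aug).naturality (homOfLE hle).op) r)).symm
      exact Eq.subst (motive := fun w => IsUnit w) h2.symm h1
    · obtain ⟨⟨a, _, k, rfl⟩, ha⟩ := IsLocalization.surj (Submonoid.powers r) z.1.1
      obtain ⟨⟨b, _, l, rfl⟩, hb⟩ := IsLocalization.surj (Submonoid.powers s) z.1.2
      have ha' : z.1.1 * (Y.presheaf.map (homOfLE hle).op).hom (r ^ k) = (Y.presheaf.map (homOfLE hle).op).hom a := ha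
      have hb' : z.1.2 * (A.presheaf.map (homOfLE hle').op).hom (s ^ l) = (A.presheaf.map (homOfLE hle').op).hom b := hb
      have hz : augOver p aug (Y.basicOpen r) z.1.2 = (p.app (Y.basicOpen r)).hom z.1.1 := z.2
      have hdiff : (X.presheaf.map (homOfLE hle').op).hom (ρ ^ k * augOver p aug U b) =
          (X.presheaf.map (homOfLE hle').op).hom (ρ ^ l * (p.app U).hom a) := by
        rw [map_mul, map_mul, ← augOver_res p aug hle, ← app_res p hle, ← hb', ← ha', map_mul, map_mul,
          augOver_res p aug hle, app_res p hle, hz, map_pow (augOver p aug U),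
          show augOver p aug U s = ρ from augOver_str p aug U ρ, map_pow (p.app U).hom r]
        ring
      obtain ⟨⟨_, m, rfl⟩, hm⟩ := IsLocalization.exists_of_eq (M := Submonoid.powers ρ)
        (S := Γ(X, p ⁻¹ᵁ Y.basicOpen r)) hdiff
      have hmem : ((r ^ m * r ^ l * a, s ^ m * s ^ k * b) :
          Γ(Y, U) × A.presheaf.obj (op (p ⁻¹ᵁ U))) ∈ pairs p aug U := by
        show augOver p aug U (s ^ m * s ^ k * b) = (p.app U).hom (r ^ m * r ^ l * a)
        rw [map_mul, map_mul, map_pow, map_pow, show augOver p aug U s = ρ from augOver_str p aug U ρ, map_mul,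
          map_mul, map_pow, map_pow, mul_assoc, mul_assoc]
        exact hm
      refine ⟨⟨⟨_, hmem⟩, _, m + (k + l), rfl⟩, Subtype.ext (Prod.ext ?_ ?_)⟩
      · show z.1.1 * (Y.presheaf.map (homOfLE hle).op).hom (r ^ (m + (k + l))) =
          (Y.presheaf.map (homOfLE hle).op).hom (r ^ m * r ^ l * a)
        rw [map_mul _ (r ^ m * r ^ l) a, ← ha', map_mul, pow_add, pow_add, map_mul, map_mul]
        ring
      · show z.1.2 * (A.presheaf.map (homOfLE hle').op).hom (s ^ (m + (k + l))) =
          (A.presheaf.map (homOfLE hle').op).hom (s ^ m * s ^ k * b)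
        rw [map_mul _ (s ^ m * s ^ k) b, ← hb', map_mul, pow_add, pow_add, map_mul, map_mul]
        ring
    · obtain ⟨⟨_, k, rfl⟩, hk⟩ := IsLocalization.exists_of_eq (M := Submonoid.powers r)
        (S := Γ(Y, Y.basicOpen r)) (congrArg (fun z => z.1.1) hxy)
      obtain ⟨⟨_, l, rfl⟩, hl⟩ := IsLocalization.exists_of_eq (M := Submonoid.powers s)
        (S := A.presheaf.obj (op (p ⁻¹ᵁ Y.basicOpen r))) (congrArg (fun z => z.1.2) hxy)
      refine ⟨⟨_, k + l, rfl⟩, Subtype.ext (Prod.ext ?_ ?_)⟩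
      · show r ^ (k + l) * x.1.1 = r ^ (k + l) * y.1.1
        rw [add_comm, pow_add, mul_assoc, mul_assoc]
        exact congrArg (r ^ l * ·) hk
      · show s ^ (k + l) * x.1.2 = s ^ (k + l) * y.1.2
        rw [pow_add, mul_assoc, mul_assoc]
        exact congrArg (s ^ k * ·) hl

/-- the first projection -/
def fibFst : fibAlg p aug ⟶ RelSpec.QCAlg.unit Y where
  hom :=
    { app := fun U => CommRingCat.ofHom ((RingHom.fst _ _).comp (pairs p aug U.unop).subtype)
      naturality := fun _ _ _ => rfl }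
  comm := by ext U r; rfl

/-- the second projection -/
def fibSnd : (fibAlg p aug).presheaf ⟶ p.base _* A.presheaf where
  app U := CommRingCat.ofHom ((RingHom.snd _ _).comp (pairs p aug U.unop).subtype)
  naturality _ _ _ := rfl

theorem str_fibSnd :
    (fibAlg p aug).str ≫ fibSnd p aug = p.c ≫ (TopCat.Presheaf.pushforward CommRingCat p.base).map A.str := by
  ext U r; rfl

end EGA2ContractLib

end
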