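import Mathlib
import Groth.Agent.CycBdlLib.Pts
import Groth.Agent.RelConeLib.SpecMap

/-!
# Basic opens of sections of relative spectra and morphisms invertible over them
-/

set_option autoImplicit false
universe u

open CategoryTheory CategoryTheory.Limits AlgebraicGeometry TopologicalSpace Opposite

noncomputable section

namespace EGA2ContractLib

variable {X Y S : Scheme.{u}}

/-- an element of a quasi-coherent algebra as a function on its spectrum -/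
def sect (B : RelSpec.QCAlg S) (U : S.Opens) : B.presheaf.obj (op U) →+* Γ(B.spec, B.π ⁻¹ᵁ U) :=
  ((CycBdlLib.toF B).app (op U)).hom

theorem sect_res (B : RelSpec.QCAlg S) {U V : S.Opens} (h : V ≤ U) (z : B.presheaf.obj (op U)) :
    (B.spec.presheaf.map (homOfLE (B.π.preimage_mono h)).op).hom (sect B U z) =
      sect B V ((B.presheaf.map (homOfLE h).op).hom z) :=
  (congr($((CycBdlLib.toF B).naturality (homOfLE h).op) z)).symm

theorem gammaAff_sect (B : RelSpec.QCAlg S) {U : S.Opens} (hU : IsAffineOpen U) (z : B.presheaf.obj (op U)) :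
    (B.gammaAff U hU).hom (sect B U z) = z := by
  rw [← B.gammaMap_app U hU]
  exact congr($(NatTrans.congr_app (IsIso.inv_hom_id B.gammaMap) (op U)) z)

theorem sect_gammaMap (B : RelSpec.QCAlg S) (U : S.Opens) (a : Γ(B.spec, B.π ⁻¹ᵁ U)) :
    sect B U ((B.gammaMap.app (op U)).hom a) = a :=
  congr($(NatTrans.congr_app (IsIso.hom_inv_id B.gammaMap) (op U)) a)

theorem gammaMap_sect (B : RelSpec.QCAlg S) (U : S.Opens) (z : B.presheaf.obj (op U)) :
    (B.gammaMap.app (op U)).hom (sect B U z) = z :=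
  congr($(NatTrans.congr_app (IsIso.inv_hom_id B.gammaMap) (op U)) z)

theorem ι_mem_basicOpen_sect (B : RelSpec.QCAlg S) {U T : S.Opens} (hT : IsAffineOpen T) (h : T ≤ U)
    (z : B.presheaf.obj (op U)) (w : Spec (B.presheaf.obj (op T))) :
    B.ι T hT w ∈ B.spec.basicOpen (sect B U z) ↔ (B.presheaf.map (homOfLE h).op).hom z ∉ w.asIdeal := by
  let z' := (B.presheaf.map (homOfLE h).op).hom z
  have h1 : B.spec.basicOpen (sect B T z') = B.π ⁻¹ᵁ T ⊓ B.spec.basicOpen (sect B U z) := by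
    rw [← sect_res B h z]
    exact Scheme.basicOpen_res _ _ _
  have h2 : B.ι T hT w ∈ B.spec.basicOpen (sect B U z) ↔ B.ι T hT w ∈ B.spec.basicOpen (sect B T z') := by
    rw [h1]
    exact ⟨fun hw => ⟨RelConeLib.preimage_π_ι B hT w, hw⟩, fun hw => hw.2⟩
  have h3 : (Spec (B.presheaf.obj (op T))).basicOpen
      ((B.ι T hT).appLE (B.π ⁻¹ᵁ T) ⊤ (B.top_le_preimage T hT) (sect B T z')) = PrimeSpectrum.basicOpen z' := by
    rw [basicOpen_eq_of_affine']
    exact congrArg _ (gammaAff_sect B hT z')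
  rw [Scheme.basicOpen_appLE, top_inf_eq] at h3
  rw [h2]
  show w ∈ B.ι T hT ⁻¹ᵁ B.spec.basicOpen (sect B T z') ↔ _
  rw [h3]
  rfl

/-- a morphism is invertible over a basic open where it is bijective up to a power -/
theorem isIso_restrict_basicOpen (f : X ⟶ Y) {G : Y.Opens} (hG : IsAffineOpen G) {P : X.Opens} (hP : P = f ⁻¹ᵁ G)
    (hc : IsCompact (P : Set X)) (hs : IsQuasiSeparated (P : Set X)) (φ : Γ(Y, G))
    (haff : IsAffineOpen (X.basicOpen (f.appLE G P hP.le φ)))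
    (h1 : ∀ b, ∃ a, f.appLE G P hP.le a = f.appLE G P hP.le φ * b)
    (h2 : ∀ a, f.appLE G P hP.le a = 0 → φ * a = 0) : IsIso (f ∣_ Y.basicOpen φ) := by
  subst hP
  simp only [← Scheme.Hom.app_eq_appLE] at haff h1 h2
  let ζ := f.app G φ
  let D := Y.basicOpen φ
  have hpre : f ⁻¹ᵁ D = X.basicOpen ζ := f.preimage_basicOpen φ
  let _i1 := (Y.presheaf.map (homOfLE (Y.basicOpen_le φ)).op).hom.toAlgebra
  let _i2 := (X.presheaf.map (homOfLE (f.preimage_mono (Y.basicOpen_le φ))).op).hom.toAlgebra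
  have hY : IsLocalization.Away φ Γ(Y, D) := hG.isLocalization_basicOpen φ
  have hX : IsLocalization.Away ζ Γ(X, f ⁻¹ᵁ D) := by
    have key : ∀ (W : X.Opens) (e : W = X.basicOpen ζ) (hW : W ≤ f ⁻¹ᵁ G),
        letI := (X.presheaf.map (homOfLE hW).op).hom.toAlgebra
        IsLocalization.Away ζ Γ(X, W) := by
      rintro W rfl hW
      exact isLocalization_basicOpen_of_qcqs hc hs ζ
    exact key _ hpre _
  have hsq : ∀ a, f.app D ((Y.presheaf.map (homOfLE (Y.basicOpen_le φ)).op) a) =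
      (X.presheaf.map (homOfLE (f.preimage_mono (Y.basicOpen_le φ))).op) (f.app G a) := fun a =>
    congr($(f.naturality (homOfLE (Y.basicOpen_le φ)).op) a)
  have hbij : Function.Bijective (f.app D).hom := by
    refine ⟨(injective_iff_map_eq_zero _).mpr fun x hx => ?_, fun y => ?_⟩
    · obtain ⟨⟨a, _, k, rfl⟩, ha⟩ := IsLocalization.surj (Submonoid.powers φ) x
      have h0 : (algebraMap Γ(X, f ⁻¹ᵁ G) Γ(X, f ⁻¹ᵁ D)) (f.app G a) = 0 := by
        refine (hsq a).symm.trans ?_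
        rw [show (Y.presheaf.map (homOfLE (Y.basicOpen_le φ)).op) a = x * algebraMap _ _ (φ ^ k) from ha.symm]
        rw [map_mul, hx, zero_mul]
      obtain ⟨⟨_, m, rfl⟩, hm⟩ := (IsLocalization.map_eq_zero_iff (Submonoid.powers ζ) _ _).mp h0
      have h3 : φ * (φ ^ m * a) = 0 := h2 _ (by rw [map_mul, map_pow]; exact hm)
      have h4 : algebraMap Γ(Y, G) Γ(Y, D) a = 0 := by
        refine (IsLocalization.map_eq_zero_iff (Submonoid.powers φ) _ _).mpr ⟨⟨_, m + 1, rfl⟩, ?_⟩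
        show φ ^ (m + 1) * a = 0
        rw [pow_succ', mul_assoc, h3]
      rw [h4] at ha
      exact ((IsLocalization.map_units (M := Submonoid.powers φ) Γ(Y, D) ⟨_, k, rfl⟩).mul_left_eq_zero).mp ha
    · obtain ⟨⟨b, _, k, rfl⟩, hb⟩ := IsLocalization.surj (Submonoid.powers ζ) y
      obtain ⟨a, ha⟩ := h1 b
      obtain ⟨c, hc⟩ := (IsLocalization.map_units (M := Submonoid.powers φ) Γ(Y, D) ⟨_, k + 1, rfl⟩).exists_left_inv
      have hu' : IsUnit (algebraMap Γ(X, f ⁻¹ᵁ G) Γ(X, f ⁻¹ᵁ D) (ζ ^ (k + 1))) :=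
        IsLocalization.map_units (M := Submonoid.powers ζ) Γ(X, f ⁻¹ᵁ D) ⟨_, k + 1, rfl⟩
      refine ⟨algebraMap Γ(Y, G) Γ(Y, D) a * c, hu'.mul_right_cancel ?_⟩
      have e1 : ∀ z, (f.app D).hom (algebraMap Γ(Y, G) Γ(Y, D) z) =
          algebraMap Γ(X, f ⁻¹ᵁ G) Γ(X, f ⁻¹ᵁ D) ((f.app G).hom z) := hsq
      have e2 : (f.app D).hom (algebraMap Γ(Y, G) Γ(Y, D) (φ ^ (k + 1))) =
          algebraMap Γ(X, f ⁻¹ᵁ G) Γ(X, f ⁻¹ᵁ D) (ζ ^ (k + 1)) := by rw [e1, map_pow (f.app G).hom]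
      have hb' : y * algebraMap Γ(X, f ⁻¹ᵁ G) Γ(X, f ⁻¹ᵁ D) (ζ ^ k) = algebraMap _ _ b := hb
      rw [← e2, ← map_mul, mul_assoc, show c * algebraMap Γ(Y, G) Γ(Y, D) (φ ^ (k + 1)) = 1 from hc, mul_one, e1,
        show (f.app G).hom a = ζ * b from ha, map_mul, ← hb', e2, pow_succ', map_mul (algebraMap _ _) ζ]
      ring
  haveI : IsAffine (D : Scheme.{u}) := hG.basicOpen φ
  haveI : IsAffine ((f ⁻¹ᵁ D : X.Opens) : Scheme.{u}) := hpre.symm ▸ haff
  have happ : IsIso (f.app D) := (ConcreteCategory.isIso_iff_bijective _).mpr hbij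
  have happ' : ∀ E : Y.Opens, E = D → IsIso (f.app E) := by rintro E rfl; exact happ
  haveI := happ' (D.ι ''ᵁ ⊤) D.ι_image_top
  have htop : IsIso (f ∣_ D).appTop := by
    rw [morphismRestrict_appTop]
    exact @IsIso.comp_isIso _ _ _ _ _ _ _ (happ' _ D.ι_image_top) (Functor.map_isIso _ _)
  exact (HasAffineProperty.iff_of_isAffine (P := MorphismProperty.isomorphisms Scheme.{u})).mpr ⟨inferInstance, htop⟩

section Pair

variable (p : X ⟶ Y) (A : RelSpec.QCAlg X) (B : RelSpec.QCAlg Y) (u : B.presheaf ⟶ p.base _* A.presheaf)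
  {q : A.spec ⟶ B.spec}
  (hq : ∀ (U : Y.Opens) (hU : IsAffineOpen U) (T : X.Opens) (hT : IsAffineOpen T) (hle : T ≤ p ⁻¹ᵁ U),
    A.ι T hT ≫ q = Spec.map (RelConeLib.comp p B A u U T hle) ≫ B.ι U hU)

/-- the component of `u` over an open -/
def uApp (U : Y.Opens) : B.presheaf.obj (op U) →+* A.presheaf.obj (op (p ⁻¹ᵁ U)) := (u.app (op U)).hom

include hq in
theorem appLE_sect {U : Y.Opens} (hU : IsAffineOpen U) (hle : A.π ⁻¹ᵁ (p ⁻¹ᵁ U) ≤ q ⁻¹ᵁ (B.π ⁻¹ᵁ U))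
    (f : B.presheaf.obj (op U)) :
    q.appLE (B.π ⁻¹ᵁ U) (A.π ⁻¹ᵁ (p ⁻¹ᵁ U)) hle (sect B U f) = sect A (p ⁻¹ᵁ U) (uApp p A B u U f) := by
  refine TopCat.Sheaf.eq_of_locally_eq' A.spec.sheaf (fun T : {T : X.affineOpens // T.1 ≤ p ⁻¹ᵁ U} => A.π ⁻¹ᵁ T.1.1)
    (A.π ⁻¹ᵁ (p ⁻¹ᵁ U)) (fun T => homOfLE (A.π.preimage_mono T.2)) (fun x hx => ?_) _ _ fun T => ?_
  · obtain ⟨T, hT, hxT, hTle⟩ := exists_isAffineOpen_mem_and_subset (X := X) (x := A.π x) (U := p ⁻¹ᵁ U) hx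
    exact Opens.mem_iSup.mpr ⟨⟨⟨T, hT⟩, hTle⟩, hxT⟩
  · obtain ⟨⟨T, hT⟩, hTle⟩ := T
    haveI : IsIso (A.gammaAff T hT) := by
      haveI := CycBdlLib.isIso_gammaMap A
      rw [← A.gammaMap_app T hT]
      exact ((asIso A.gammaMap).app (op T)).isIso_hom
    refine (ConcreteCategory.bijective_of_isIso (A.gammaAff T hT)).1 ?_
    refine Eq.trans ?_ ((congrArg (A.gammaAff T hT).hom (sect_res A hTle _)).trans (gammaAff_sect A hT _)).symm
    show (q.appLE (B.π ⁻¹ᵁ U) (A.π ⁻¹ᵁ (p ⁻¹ᵁ U)) hle ≫ A.spec.presheaf.map (homOfLE (A.π.preimage_mono hTle)).op ≫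
      A.gammaAff T hT).hom (sect B U f) = _
    have key : q.appLE (B.π ⁻¹ᵁ U) (A.π ⁻¹ᵁ (p ⁻¹ᵁ U)) hle ≫
        A.spec.presheaf.map (homOfLE (A.π.preimage_mono hTle)).op ≫ A.gammaAff T hT =
          B.gammaAff U hU ≫ RelConeLib.comp p B A u U T hTle := by
      rw [Scheme.Hom.appLE_map_assoc]
      simp only [RelSpec.QCAlg.gammaAff, Category.assoc, ← Scheme.ΓSpecIso_naturality]
      simp only [← Category.assoc]
      congr 1
      rw [Scheme.Hom.appLE_comp_appLE]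
      have h1 : ∀ {k k' : Spec (A.presheaf.obj (op T)) ⟶ B.spec} (_ : k = k') (e : ⊤ ≤ k ⁻¹ᵁ (B.π ⁻¹ᵁ U))
          (e' : ⊤ ≤ k' ⁻¹ᵁ (B.π ⁻¹ᵁ U)), k.appLE (B.π ⁻¹ᵁ U) ⊤ e = k'.appLE (B.π ⁻¹ᵁ U) ⊤ e' := by
        intro k k' e _ _; subst e; rfl
      rw [h1 (hq U hU T hT hTle) _ (fun z _ => B.top_le_preimage U hU trivial),
        ← Scheme.Hom.appLE_comp_appLE _ _ (B.π ⁻¹ᵁ U) ⊤ ⊤ (B.top_le_preimage U hU) (le_refl _), Scheme.Hom.appTop]
      exact congrArg (_ ≫ ·) (Scheme.Hom.appLE_eq_app _)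
    rw [key]
    exact congrArg (RelConeLib.comp p B A u U T hTle).hom (gammaAff_sect B hU f)

variable [QuasiCompact p] [QuasiSeparated p]

include hq in
theorem isIso_restrict_sect (hover : q ≫ B.π = A.π ≫ p) {U : Y.Opens} (hU : IsAffineOpen U)
    (f : B.presheaf.obj (op U))
    (haff : IsAffineOpen (A.spec.basicOpen (sect A (p ⁻¹ᵁ U) (uApp p A B u U f))))
    (h1 : ∀ z, ∃ x, uApp p A B u U x = uApp p A B u U f * z)
    (h2 : ∀ x, uApp p A B u U x = 0 → f * x = 0) :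
    IsIso (q ∣_ B.spec.basicOpen (sect B U f)) := by
  have hP : A.π ⁻¹ᵁ (p ⁻¹ᵁ U) = q ⁻¹ᵁ (B.π ⁻¹ᵁ U) := by
    rw [← Scheme.Hom.comp_preimage, ← hover, Scheme.Hom.comp_preimage]
  refine isIso_restrict_basicOpen q (hU.preimage B.π) hP
    (A.π.isCompact_preimage (p.isCompact_preimage hU.isCompact))
    (A.π.isQuasiSeparated_preimage (p.isQuasiSeparated_preimage hU.isQuasiSeparated))
    (sect B U f) ?_ (fun b => ?_) (fun a ha => ?_)
  · rw [appLE_sect p A B u hq hU]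
    exact haff
  · obtain ⟨x, hx⟩ := h1 ((A.gammaMap.app (op (p ⁻¹ᵁ U))).hom b)
    refine ⟨sect B U x, ?_⟩
    rw [appLE_sect p A B u hq hU, appLE_sect p A B u hq hU, hx, map_mul, sect_gammaMap]
  · have hx := sect_gammaMap B U a
    rw [← hx] at ha ⊢
    rw [appLE_sect p A B u hq hU] at ha
    rw [← map_mul, h2 _ ?_, map_zero]
    have h3 := congrArg (A.gammaMap.app (op (p ⁻¹ᵁ U))).hom ha
    rw [gammaMap_sect] at h3
    exact h3.trans (map_zero _)

end Pair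

end EGA2ContractLib

end
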