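import Mathlib
import Groth.Agent.EGA2ContractLib.Fib
import Groth.Agent.EGA2ContractLib.SecBasic
import Groth.Agent.EGA2SymLib.RLAmple

/-!
# The contraction of the zero section attached to a relatively ample invertible module
-/

set_option autoImplicit false
universe u

open CategoryTheory CategoryTheory.Limits AlgebraicGeometry TopologicalSpace Opposite
open AmpleLib (res GenOn GenAt)
open EGA2SymLib

noncomputable section

namespace EGA2ContractLib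

variable {X Y : Scheme.{u}} (p : X ⟶ Y) [QuasiCompact p] [QuasiSeparated p] {L : X.Modules} [Coh.IsQCoh L]
  {𝒜 : RelProj.QCGrAlg X} {jL : L ⟶ 𝒜.toModule} (hL : PicF.IsInvertible L) (hj : RelProj.IsGrSymAlg L 𝒜 jL)
  (h0 : RelCone.StrZeroBij 𝒜) (aug : 𝒜.toQCAlg ⟶ RelSpec.QCAlg.unit X) (haug : RelCone.IsAugmentation 𝒜 aug)

/-- the contracted cone -/
abbrev tgt : Scheme.{u} := (fibAlg p aug).spec

/-- the section of the contracted cone -/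
def tgtVertex : Y ⟶ tgt p aug :=
  haveI := RelConeLib.isIso_unit_π Y
  inv (RelSpec.QCAlg.unit Y).π ≫ RelSpec.QCAlg.specMap (fibFst p aug)

theorem tgtVertex_π : tgtVertex p aug ≫ (fibAlg p aug).π = 𝟙 Y := by
  haveI := RelConeLib.isIso_unit_π Y
  rw [tgtVertex, Category.assoc, RelSpec.QCAlg.specMap_π, IsIso.inv_hom_id]

theorem fromSpec_tgtVertex {U : Y.Opens} (hU : IsAffineOpen U) :
    hU.fromSpec ≫ tgtVertex p aug = Spec.map ((fibFst p aug).hom.app (op U)) ≫ (fibAlg p aug).ι U hU := by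
  haveI := RelConeLib.isIso_unit_π Y
  have h : hU.fromSpec ≫ inv (RelSpec.QCAlg.unit Y).π = (RelSpec.QCAlg.unit Y).ι U hU := by
    rw [IsIso.comp_inv_eq]
    exact (((RelSpec.QCAlg.unit Y).ι_π U hU).trans
      ((congrArg (· ≫ hU.fromSpec) (Spec.map_id _)).trans (Category.id_comp _))).symm
  rw [tgtVertex, reassoc_of% h]
  exact RelSpec.QCAlg.ι_specMap U hU _

/-- the chart equations of the contraction -/
def IsContraction (q : 𝒜.toQCAlg.spec ⟶ tgt p aug) : Prop :=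
  ∀ (U : Y.Opens) (hU : IsAffineOpen U) (T : X.Opens) (hT : IsAffineOpen T) (hle : T ≤ p ⁻¹ᵁ U),
    𝒜.toQCAlg.ι T hT ≫ q =
      Spec.map (RelConeLib.comp p (fibAlg p aug) 𝒜.toQCAlg (fibSnd p aug) U T hle) ≫ (fibAlg p aug).ι U hU

theorem exists_contraction :
    ∃ q : 𝒜.toQCAlg.spec ⟶ tgt p aug, IsContraction p aug q ∧ q ≫ (fibAlg p aug).π = 𝒜.toQCAlg.π ≫ p :=
  let ⟨q, hq, _⟩ := RelConeLib.existsUnique_specMap p (fibAlg p aug) 𝒜.toQCAlg (fibSnd p aug)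
  ⟨q, hq, RelConeLib.specMap_over p (fibAlg p aug) 𝒜.toQCAlg (fibSnd p aug) (str_fibSnd p aug) q hq⟩

variable {p aug} {q : 𝒜.toQCAlg.spec ⟶ tgt p aug} (hq : IsContraction p aug q)
  (hover : q ≫ (fibAlg p aug).π = 𝒜.toQCAlg.π ≫ p)

include hq in
theorem vertex_contraction {j0 : X ⟶ 𝒜.toQCAlg.spec} (hj0 : RelCone.IsVertex 𝒜 aug j0) :
    j0 ≫ q = p ≫ tgtVertex p aug := by
  refine RelConeLib.ext_of_charts _ _ fun x => ?_
  obtain ⟨U, hU, hxU, -⟩ := exists_isAffineOpen_mem_and_subset (X := Y) (x := p x) (U := ⊤) trivial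
  obtain ⟨T, hT, hxT, hTle⟩ := exists_isAffineOpen_mem_and_subset (X := X) (x := x) (U := p ⁻¹ᵁ U) hxU
  refine ⟨_, hT.fromSpec, inferInstance, by rw [hT.range_fromSpec]; exact hxT, ?_⟩
  let a1 : 𝒜.presheaf.obj (op T) ⟶ Γ(X, T) := aug.hom.app (op T)
  let a2 : (fibAlg p aug).presheaf.obj (op U) ⟶ Γ(Y, U) := (fibFst p aug).hom.app (op U)
  have c1 : hT.fromSpec ≫ j0 = Spec.map a1 ≫ 𝒜.toQCAlg.ι T hT := hj0.chart T hT
  have c2 : hU.fromSpec ≫ tgtVertex p aug = Spec.map a2 ≫ (fibAlg p aug).ι U hU := fromSpec_tgtVertex p aug hU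
  rw [reassoc_of% c1, hq U hU T hT hTle, ← IsAffineOpen.SpecMap_appLE_fromSpec_assoc p hU hT hTle,
    c2, ← Spec.map_comp_assoc, ← Spec.map_comp_assoc]
  congr 2
  refine CommRingCat.hom_ext (RingHom.ext fun a => ?_)
  show (aug.hom.app (op T)).hom ((𝒜.presheaf.map (homOfLE hTle).op).hom a.1.2) =
    (p.appLE U T hTle).hom a.1.1
  refine (congr($(aug.hom.naturality (homOfLE hTle).op) a.1.2)).trans ?_
  show (X.presheaf.map (homOfLE hTle).op).hom (augOver p aug U a.1.2) = _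
  rw [(mem_pairs p aug).mp a.2]
  rfl

include haug in
theorem augOver_eq_zero {n : ℕ} (hn : 0 < n) {U : Y.Opens} {z : 𝒜.presheaf.obj (op (p ⁻¹ᵁ U))}
    (hz : DegMem 𝒜 n (p ⁻¹ᵁ U) z) : augOver p aug U z = 0 := by
  refine TopCat.Sheaf.eq_of_locally_eq' X.sheaf (fun T : {T : X.affineOpens // T.1 ≤ p ⁻¹ᵁ U} => T.1.1)
    (p ⁻¹ᵁ U) (fun T => homOfLE T.2) (fun x hx => ?_) _ _ fun T => ?_
  · obtain ⟨T, hT, hxT, hTle⟩ := exists_isAffineOpen_mem_and_subset (X := X) (x := x) (U := p ⁻¹ᵁ U) hx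
    exact Opens.mem_iSup.mpr ⟨⟨⟨T, hT⟩, hTle⟩, hxT⟩
  · obtain ⟨⟨T, hT⟩, hTle⟩ := T
    refine (congr($(aug.hom.naturality (homOfLE hTle).op) z)).symm.trans ?_
    obtain ⟨d, rfl⟩ := Nat.exists_eq_add_of_le hn
    refine Eq.trans ?_ (map_zero (X.presheaf.map (homOfLE hTle).op).hom).symm
    exact haug T hT d _ (Nat.add_comm 1 d ▸ hz T hT hTle)

/-- the element of the fibre product attached to an augmentation-free section -/
def pairElt {U : Y.Opens} (z : 𝒜.presheaf.obj (op (p ⁻¹ᵁ U))) (hz : augOver p aug U z = 0) :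
    (fibAlg p aug).presheaf.obj (op U) :=
  ⟨((0 : Γ(Y, U)), z), by rw [mem_pairs, hz, map_zero]⟩

include hq hover in
theorem preimage_basicOpen_pairElt {U : Y.Opens} (hU : IsAffineOpen U) (z : 𝒜.presheaf.obj (op (p ⁻¹ᵁ U)))
    (hz : augOver p aug U z = 0) :
    q ⁻¹ᵁ (tgt p aug).basicOpen (sect (fibAlg p aug) U (pairElt z hz)) =
      𝒜.toQCAlg.spec.basicOpen (sect 𝒜.toQCAlg (p ⁻¹ᵁ U) z) := by
  have hP : 𝒜.toQCAlg.π ⁻¹ᵁ (p ⁻¹ᵁ U) = q ⁻¹ᵁ ((fibAlg p aug).π ⁻¹ᵁ U) := by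
    rw [← Scheme.Hom.comp_preimage, ← hover, Scheme.Hom.comp_preimage]
  have h := appLE_sect p 𝒜.toQCAlg (fibAlg p aug) (fibSnd p aug) hq hU hP.le (pairElt z hz)
  refine Eq.trans ?_ (congrArg _ h)
  rw [Scheme.basicOpen_appLE]
  exact (inf_eq_right.mpr ((q.preimage_mono ((tgt p aug).basicOpen_le _)).trans hP.ge)).symm

include hq hover in
theorem isIso_restrict_pairElt {U : Y.Opens} (hU : IsAffineOpen U) (z : 𝒜.presheaf.obj (op (p ⁻¹ᵁ U)))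
    (hz : augOver p aug U z = 0)
    (haff : IsAffineOpen (𝒜.toQCAlg.spec.basicOpen (sect 𝒜.toQCAlg (p ⁻¹ᵁ U) z))) :
    IsIso (q ∣_ (tgt p aug).basicOpen (sect (fibAlg p aug) U (pairElt z hz))) := by
  refine isIso_restrict_sect p 𝒜.toQCAlg (fibAlg p aug) (fibSnd p aug) hq hover hU (pairElt z hz) haff
    (fun b => ⟨pairElt (z * b) (by rw [map_mul, hz, zero_mul]), rfl⟩) fun x hx => ?_
  refine Subtype.ext (Prod.ext (zero_mul _) ?_)
  have hx' : x.1.2 = 0 := hx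
  show z * x.1.2 = 0
  rw [hx', mul_zero]

theorem not_mem_tgtVertex {U : Y.Opens} (hU : IsAffineOpen U) (z : 𝒜.presheaf.obj (op (p ⁻¹ᵁ U)))
    (hz : augOver p aug U z = 0) (y : Y) :
    tgtVertex p aug y ∉ (tgt p aug).basicOpen (sect (fibAlg p aug) U (pairElt z hz)) := by
  intro hy
  have hyU : y ∈ U := by
    have h : (fibAlg p aug).π (tgtVertex p aug y) ∈ U := (tgt p aug).basicOpen_le _ hy
    rw [← Scheme.Hom.comp_apply, tgtVertex_π] at h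
    exact h
  obtain ⟨s, rfl⟩ : y ∈ Set.range hU.fromSpec := by rw [hU.range_fromSpec]; exact hyU
  let a2 : (fibAlg p aug).presheaf.obj (op U) ⟶ Γ(Y, U) := (fibFst p aug).hom.app (op U)
  have c2 : hU.fromSpec ≫ tgtVertex p aug = Spec.map a2 ≫ (fibAlg p aug).ι U hU := fromSpec_tgtVertex p aug hU
  rw [← Scheme.Hom.comp_apply, c2, Scheme.Hom.comp_apply, ι_mem_basicOpen_sect _ hU le_rfl] at hy
  refine hy ?_
  show (fibFst p aug).hom.app (op U) _ ∈ s.asIdeal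
  rw [show ((fibAlg p aug).presheaf.map (homOfLE (le_refl U)).op).hom (pairElt z hz) = pairElt z hz from
    ConcreteCategory.congr_hom ((fibAlg p aug).presheaf.map_id (op U)) _]
  exact zero_mem s.asIdeal

section Line

variable {T : X.Opens} (hT : IsAffineOpen T) {e : Γ(L, T)} (he : GenOn L e)

include hj he in
theorem mem_pointedCone_iff (w : Spec (𝒜.presheaf.obj (op T))) :
    𝒜.toQCAlg.ι T hT w ∈ RelCone.pointedCone 𝒜 ↔ jS jL T e ∉ w.asIdeal := by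
  show w ∈ 𝒜.toQCAlg.ι T hT ⁻¹ᵁ RelCone.pointedCone 𝒜 ↔ _
  rw [RelConeLib.ι_preimage_pointedCone 𝒜 hT, RelConeLib.mem_vertexCompl, not_iff_not]
  refine ⟨fun h => h (HomogeneousIdeal.mem_irrelevant_of_mem _ one_pos (hj.2 T hT e)), fun h => ?_⟩
  refine (HomogeneousIdeal.toIdeal_irrelevant_le _).mpr fun d hd a ha => ?_
  obtain ⟨c, rfl⟩ := exists_gen_coeff hj hT he ha
  exact Ideal.mul_mem_left _ _ (Ideal.pow_mem_of_mem _ h d hd)

theorem π_mem_basicOpen_iff (c : Γ(X, T)) (w : Spec (𝒜.presheaf.obj (op T))) :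
    𝒜.toQCAlg.π (𝒜.toQCAlg.ι T hT w) ∈ X.basicOpen c ↔ (𝒜.str.app (op T)).hom c ∉ w.asIdeal := by
  rw [← Scheme.Hom.comp_apply, 𝒜.toQCAlg.ι_π, Scheme.Hom.comp_apply]
  show Spec.map (𝒜.str.app (op T)) w ∈ hT.fromSpec ⁻¹ᵁ X.basicOpen c ↔ _
  rw [hT.fromSpec_preimage_basicOpen]
  rfl

end Line

include hj in
/-- the standard open of a section is the part of the pointed cone over its locus -/
theorem basicOpen_sect_eq {n : ℕ} (hn : 0 < n) {O W : X.Opens} {σ : Γ(CohB1.tensorPow L n, O)}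
    (hW : IsLocusOn σ W) :
    𝒜.toQCAlg.spec.basicOpen (sect 𝒜.toQCAlg O (sV (powMap hL jL n) O σ)) =
      RelCone.pointedCone 𝒜 ⊓ 𝒜.toQCAlg.π ⁻¹ᵁ W := by
  ext v
  by_cases hvO : 𝒜.toQCAlg.π v ∈ O
  swap
  · exact ⟨fun h => absurd ((𝒜.toQCAlg.spec.basicOpen_le _ h : v ∈ 𝒜.toQCAlg.π ⁻¹ᵁ O)) hvO,
      fun h => absurd (hW.1 h.2) hvO⟩
  obtain ⟨U, e, hxU, he⟩ := TwistLib.exists_genOn hL (𝒜.toQCAlg.π v)
  obtain ⟨T, hT, hxT, hle⟩ :=
    exists_isAffineOpen_mem_and_subset (X := X) (x := 𝒜.toQCAlg.π v) (U := O ⊓ U) ⟨hvO, hxU⟩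
  have hTO : T ≤ O := fun y hy => (hle hy).1
  have heT : GenOn L (res L (fun y hy => (hle hy).2 : T ≤ U) e) := he.res _
  obtain ⟨w, rfl⟩ := RelConeLib.exists_ι_eq 𝒜.toQCAlg hT v hxT
  obtain ⟨c, hc⟩ := (AmpleThLib.pS_genOn heT n T le_rfl).2 (res _ hTO σ)
  simp only [AmpleLib.res_refl] at hc
  have h1 : 𝒜.toQCAlg.π (𝒜.toQCAlg.ι T hT w) ∈ W ↔ (𝒜.str.app (op T)).hom c ∉ w.asIdeal := by
    rw [← π_mem_basicOpen_iff hT c w, hW.2 _ hvO, ← AmpleLib.genAt_res hTO σ hxT, ← hc,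
      AmpleLib.genAt_smul_iff _ _ hxT ((AmpleThLib.pS_genOn heT n).genAt hxT)]
  show 𝒜.toQCAlg.ι T hT w ∈ 𝒜.toQCAlg.spec.basicOpen _ ↔ _ ∧ 𝒜.toQCAlg.π (𝒜.toQCAlg.ι T hT w) ∈ W
  rw [ι_mem_basicOpen_sect 𝒜.toQCAlg hT hTO, h1]
  show _ ↔ 𝒜.toQCAlg.ι T hT w ∈ RelCone.pointedCone 𝒜 ∧ _
  rw [mem_pointedCone_iff hj hT heT, ← sV_res, ← hc, powMap_coeff hL heT]
  refine ⟨fun h => ⟨fun hm => h (Ideal.mul_mem_left _ _ (Ideal.pow_mem_of_mem _ hm n hn)),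
    fun hm => h (Ideal.mul_mem_right _ _ hm)⟩, fun h hm => ?_⟩
  exact (w.isPrime.mem_or_mem hm).elim h.2 fun h' => h.1 (w.isPrime.mem_of_pow_mem _ h')

include hj in
theorem isAffineOpen_basicOpen_sect {n : ℕ} (hn : 0 < n) {O W : X.Opens} {σ : Γ(CohB1.tensorPow L n, O)}
    (hW : IsLocusOn σ W) (hWa : IsAffineOpen W) :
    IsAffineOpen (𝒜.toQCAlg.spec.basicOpen (sect 𝒜.toQCAlg O (sV (powMap hL jL n) O σ))) := by
  let ζ := sect 𝒜.toQCAlg O (sV (powMap hL jL n) O σ)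
  have hle : 𝒜.toQCAlg.spec.basicOpen ζ ≤ 𝒜.toQCAlg.π ⁻¹ᵁ W :=
    (basicOpen_sect_eq hL hj hn hW).le.trans inf_le_right
  have h := (hWa.preimage 𝒜.toQCAlg.π).basicOpen
    ((𝒜.toQCAlg.spec.presheaf.map (homOfLE (𝒜.toQCAlg.π.preimage_mono hW.1)).op).hom ζ)
  rw [show 𝒜.toQCAlg.spec.basicOpen ((𝒜.toQCAlg.spec.presheaf.map
    (homOfLE (𝒜.toQCAlg.π.preimage_mono hW.1)).op).hom ζ) = 𝒜.toQCAlg.π ⁻¹ᵁ W ⊓ 𝒜.toQCAlg.spec.basicOpen ζ from
    Scheme.basicOpen_res _ _ _, inf_eq_right.mpr hle] at h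
  exact h

include hL hj in
theorem quasiCompact_pointedCone_ι : QuasiCompact (RelCone.pointedCone 𝒜).ι := by
  let I := {T : X.affineOpens // ∃ e : Γ(L, T.1), GenOn L e}
  haveI : IsAffineHom (RelCone.pointedCone 𝒜).ι := by
    refine IsZariskiLocalAtTarget.of_iSup_eq_top (P := @IsAffineHom) (fun T : I => 𝒜.toQCAlg.π ⁻¹ᵁ T.1.1)
      (top_le_iff.mp fun v _ => ?_) fun T => ?_
    · obtain ⟨U, e, hxU, he⟩ := TwistLib.exists_genOn hL (𝒜.toQCAlg.π v)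
      obtain ⟨T, hT, hxT, hle⟩ := exists_isAffineOpen_mem_and_subset (X := X) (x := 𝒜.toQCAlg.π v) (U := U) hxU
      exact Opens.mem_iSup.mpr ⟨⟨⟨T, hT⟩, res L hle e, he.res _⟩, hxT⟩
    · obtain ⟨⟨T, hT⟩, e, he⟩ := T
      have heq : 𝒜.toQCAlg.spec.basicOpen (sect 𝒜.toQCAlg T (jS jL T e)) =
          RelCone.pointedCone 𝒜 ⊓ 𝒜.toQCAlg.π ⁻¹ᵁ T := by
        ext v
        by_cases hv : 𝒜.toQCAlg.π v ∈ T
        · obtain ⟨w, rfl⟩ := RelConeLib.exists_ι_eq 𝒜.toQCAlg hT v hv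
          show 𝒜.toQCAlg.ι T hT w ∈ 𝒜.toQCAlg.spec.basicOpen _ ↔ 𝒜.toQCAlg.ι T hT w ∈ RelCone.pointedCone 𝒜 ∧ _
          rw [ι_mem_basicOpen_sect 𝒜.toQCAlg hT le_rfl, mem_pointedCone_iff hj hT he]
          rw [show (𝒜.presheaf.map (homOfLE (le_refl T)).op).hom (jS jL T e) = jS jL T e from
            ConcreteCategory.congr_hom (𝒜.presheaf.map_id (op T)) _]
          exact ⟨fun h => ⟨h, hv⟩, fun h => h.1⟩
        · exact ⟨fun h => absurd (𝒜.toQCAlg.spec.basicOpen_le _ h : v ∈ 𝒜.toQCAlg.π ⁻¹ᵁ T) hv,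
            fun h => absurd h.2 hv⟩
      have haff : IsAffineOpen (RelCone.pointedCone 𝒜 ⊓ 𝒜.toQCAlg.π ⁻¹ᵁ T) :=
        heq ▸ (hT.preimage 𝒜.toQCAlg.π).basicOpen _
      haveI : IsAffine ((𝒜.toQCAlg.π ⁻¹ᵁ T : 𝒜.toQCAlg.spec.Opens) : Scheme.{u}) := hT.preimage 𝒜.toQCAlg.π
      refine (HasAffineProperty.iff_of_isAffine (P := @IsAffineHom)).mpr ?_
      show IsAffineOpen ((RelCone.pointedCone 𝒜).ι ⁻¹ᵁ (𝒜.toQCAlg.π ⁻¹ᵁ T))
      rw [← (RelCone.pointedCone 𝒜).ι.isAffineOpen_iff_of_isOpenImmersion, Scheme.Hom.image_preimage_eq_opensRange_inf,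
        Scheme.Opens.opensRange_ι]
      exact haff
  infer_instance

variable (hR : RelAmple.IsRelAmple p L)

include hL hj haug hq hover hR in
/-- the contraction is an isomorphism onto an open avoiding the section, off the zero section -/
theorem exists_open :
    ∃ O : (tgt p aug).Opens, IsIso (q ∣_ O) ∧ q ⁻¹ᵁ O = RelCone.pointedCone 𝒜 ∧
      (∀ y, tgtVertex p aug y ∉ O) := by
  let J := Σ' (U : Y.Opens) (n : ℕ) (σ : Γ(CohB1.tensorPow L n, p ⁻¹ᵁ U)) (W : X.Opens),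
    PLift (IsAffineOpen U ∧ 0 < n ∧ IsLocusOn σ W ∧ IsAffineOpen W)
  let zJ : ∀ j : J, 𝒜.presheaf.obj (op (p ⁻¹ᵁ j.1)) := fun j => sV (powMap hL jL j.2.1) (p ⁻¹ᵁ j.1) j.2.2.1
  have hz : ∀ j : J, augOver p aug j.1 (zJ j) = 0 := fun j =>
    augOver_eq_zero haug j.2.2.2.2.down.2.1 (powMap_degMem hL hj _ _)
  let Bj : J → (tgt p aug).Opens := fun j => (tgt p aug).basicOpen (sect (fibAlg p aug) j.1 (pairElt (zJ j) (hz j)))
  let O : (tgt p aug).Opens := ⨆ j, Bj j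
  have hpre : ∀ j : J, q ⁻¹ᵁ Bj j = RelCone.pointedCone 𝒜 ⊓ 𝒜.toQCAlg.π ⁻¹ᵁ j.2.2.2.1 := fun j =>
    (preimage_basicOpen_pairElt hq hover j.2.2.2.2.down.1 (zJ j) (hz j)).trans
      (basicOpen_sect_eq hL hj j.2.2.2.2.down.2.1 j.2.2.2.2.down.2.2.1)
  refine ⟨O, ?_, ?_, fun y hy => ?_⟩
  · refine IsZariskiLocalAtTarget.of_iSup_eq_top (P := MorphismProperty.isomorphisms Scheme.{u})
      (fun j => O.ι ⁻¹ᵁ Bj j) (top_le_iff.mp fun z _ => ?_) fun j => ?_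
    · obtain ⟨j, hzj⟩ := Opens.mem_iSup.mp z.2
      exact Opens.mem_iSup.mpr ⟨j, hzj⟩
    · refine ((MorphismProperty.isomorphisms Scheme.{u}).arrow_mk_iso_iff (morphismRestrictRestrict q O _)).mpr ?_
      have he : O.ι ''ᵁ (O.ι ⁻¹ᵁ Bj j) = Bj j := by
        rw [Scheme.Hom.image_preimage_eq_opensRange_inf, Scheme.Opens.opensRange_ι]
        exact inf_eq_right.mpr (le_iSup Bj j)
      have : ∀ B, B = Bj j → IsIso (q ∣_ B) := by
        rintro B rfl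
        exact isIso_restrict_pairElt hq hover j.2.2.2.2.down.1 (zJ j) (hz j)
          (isAffineOpen_basicOpen_sect hL hj j.2.2.2.2.down.2.1 j.2.2.2.2.down.2.2.1 j.2.2.2.2.down.2.2.2)
      exact this _ he
  · ext v
    show q v ∈ O ↔ _
    constructor
    · intro hv
      obtain ⟨j, hvj⟩ := Opens.mem_iSup.mp hv
      exact ((hpre j).le hvj).1
    · intro hv
      obtain ⟨U, hU, hxU, -⟩ := exists_isAffineOpen_mem_and_subset (X := Y) (x := p (𝒜.toQCAlg.π v)) (U := ⊤) trivial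
      obtain ⟨n, σ, W, hn, hW, hxW, hWa⟩ := exists_locus_of_isAmple hL (hR.2 ⟨U, hU⟩)
        (show 𝒜.toQCAlg.π v ∈ p ⁻¹ᵁ U from hxU)
      exact Opens.mem_iSup.mpr ⟨⟨U, n, σ, W, ⟨hU, hn, hW, hWa⟩⟩, (hpre _).ge ⟨hv, hxW⟩⟩
  · obtain ⟨j, hyj⟩ := Opens.mem_iSup.mp hy
    exact not_mem_tgtVertex j.2.2.2.2.down.1 (zJ j) (hz j) y hyj

theorem isOpenImmersion_of_restrict {V C : Scheme.{u}} (f : V ⟶ C) {V0 : V.Opens} {O : C.Opens}
    (h : f ⁻¹ᵁ O = V0) [IsIso (f ∣_ O)] :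
    IsOpenImmersion (V0.ι ≫ f) ∧ Set.range (V0.ι ≫ f).base = O := by
  subst h
  rw [← morphismRestrict_ι]
  refine ⟨inferInstance, ?_⟩
  have hs := (f ∣_ O).homeomorph.surjective
  ext c
  constructor
  · rintro ⟨v, rfl⟩
    exact ((f ∣_ O) v).2
  · intro hc
    obtain ⟨v, hv⟩ := hs ⟨c, hc⟩
    exact ⟨v, congrArg Subtype.val hv⟩

include hL hj h0 haug hR in
/-- the forward direction: a contraction exists -/
theorem exists_contraction_data {j0 : X ⟶ 𝒜.toQCAlg.spec} (hj0 : RelCone.IsVertex 𝒜 aug j0)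
    {V0 : 𝒜.toQCAlg.spec.Opens} (hV0 : (V0 : Set 𝒜.toQCAlg.spec) = (Set.range j0.base)ᶜ) :
    ∃ q : 𝒜.toQCAlg.spec ⟶ tgt p aug, IsContraction p aug q ∧ q ≫ (fibAlg p aug).π = 𝒜.toQCAlg.π ≫ p ∧
      j0 ≫ q = p ≫ tgtVertex p aug ∧ IsOpenImmersion (V0.ι ≫ q) ∧ QuasiCompact (V0.ι ≫ q) ∧
        Set.range (V0.ι ≫ q).base ∩ Set.range (tgtVertex p aug).base = ∅ := by
  obtain rfl : V0 = RelCone.pointedCone 𝒜 :=
    Opens.ext (hV0.trans (RelConeLib.compl_vertex h0 haug hj0).symm)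
  obtain ⟨q, hq, hover⟩ := exists_contraction p aug
  obtain ⟨O, hO, hpre, hdisj⟩ := exists_open hL hj haug hq hover hR
  obtain ⟨h1, h2⟩ := isOpenImmersion_of_restrict q hpre
  refine ⟨q, hq, hover, vertex_contraction hq hj0, h1, ?_, ?_⟩
  · haveI := quasiCompact_pointedCone_ι hL hj
    haveI : QuasiCompact (q ≫ (fibAlg p aug).π) := by rw [hover]; infer_instance
    haveI := QuasiCompact.of_comp q (fibAlg p aug).π
    infer_instance
  · refine Set.eq_empty_iff_forall_notMem.mpr ?_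
    rintro _ ⟨hc, ⟨y, rfl⟩⟩
    exact hdisj y (h2.le hc)

end EGA2ContractLib

end
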