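import Mathlib
import Groth.Agent.EGA2ContractLib.Contraction

/-!
# Properness and image of the contraction of the zero section over a proper morphism
-/

set_option autoImplicit false
set_option linter.all false
universe u

open CategoryTheory CategoryTheory.Limits AlgebraicGeometry TopologicalSpace Opposite
open AmpleLib (res GenOn GenAt)
open EGA2SymLib

noncomputable section

namespace EGA2ContractLib

variable {X Y : Scheme.{u}} {p : X ⟶ Y} [IsProper p] {L : X.Modules} [Coh.IsQCoh L]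
  {𝒜 : RelProj.QCGrAlg X} {jL : L ⟶ 𝒜.toModule} (hL : PicF.IsInvertible L) (hj : RelProj.IsGrSymAlg L 𝒜 jL)
  {aug : 𝒜.toQCAlg ⟶ RelSpec.QCAlg.unit X} (haug : RelCone.IsAugmentation 𝒜 aug)
  {q : 𝒜.toQCAlg.spec ⟶ tgt p aug} (hq : IsContraction p aug q)
  (hover : q ≫ (fibAlg p aug).π = 𝒜.toQCAlg.π ≫ p)

/-- a homomorphism into a ring generated by an integral element over its image is finite -/
theorem finite_of_adjoin {R S : Type u} [CommRing R] [CommRing S] (φ : R →+* S) (x : S) {d : ℕ} (hd : 0 < d)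
    {r : R} (hx : x ^ d = φ r) (hgen : ∀ a : S, a ∈ Subring.closure (Set.range φ ∪ {x})) : φ.Finite := by
  letI := φ.toAlgebra
  have hi : IsIntegral R x := ⟨Polynomial.X ^ d - Polynomial.C r, Polynomial.monic_X_pow_sub_C r hd.ne', by
    rw [Polynomial.eval₂_sub, Polynomial.eval₂_X_pow, Polynomial.eval₂_C, hx]
    exact sub_self _⟩
  have htop : Algebra.adjoin R ({x} : Set S) = ⊤ := by
    refine eq_top_iff.mpr fun a _ => ?_
    have ha := hgen a
    have hle : Subring.closure (Set.range φ ∪ {x}) ≤ (Algebra.adjoin R ({x} : Set S)).toSubring := by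
      refine Subring.closure_le.mpr ?_
      rintro b (⟨c, rfl⟩ | rfl)
      · exact Subalgebra.algebraMap_mem _ c
      · exact Algebra.subset_adjoin rfl
    exact hle ha
  refine ⟨?_⟩
  have := hi.fg_adjoin_singleton
  rw [htop, Algebra.top_toSubmodule] at this
  exact this

theorem finite_restrict_appTop {V P : Scheme.{u}} (k : V ⟶ P) (E : P.Opens)
    (h : ∀ E', E' = E → RingHom.Finite (k.app E').hom) : RingHom.Finite (k ∣_ E).appTop.hom := by
  haveI : IsIso (V.presheaf.map (eqToHom (image_morphismRestrict_preimage k E ⊤)).op) := Functor.map_isIso _ _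
  have h2 : k.app (E.ι ''ᵁ ⊤) ≫ V.presheaf.map (eqToHom (image_morphismRestrict_preimage k E ⊤)).op =
      (k ∣_ E).appTop := (morphismRestrict_appTop k E).symm
  have h3 : RingHom.Finite (k.app (E.ι ''ᵁ ⊤) ≫
      V.presheaf.map (eqToHom (image_morphismRestrict_preimage k E ⊤)).op).hom :=
    RingHom.finite_respectsIso.1 _
      (asIso (V.presheaf.map (eqToHom (image_morphismRestrict_preimage k E ⊤)).op)).commRingCatIsoToRingEquiv
      (h _ E.ι_image_top)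
  rw [h2] at h3
  exact h3

include hj in
theorem mem_closure_gen {T : X.Opens} (hT : IsAffineOpen T) {e : Γ(L, T)} (he : GenOn L e)
    (a : 𝒜.presheaf.obj (op T)) :
    a ∈ Subring.closure (Set.range (𝒜.str.app (op T)).hom ∪ {jS jL T e}) := by
  classical
  rw [← DirectSum.sum_support_decompose (𝒜.deg T hT) a]
  refine Subring.sum_mem _ fun n _ => ?_
  obtain ⟨c, hc⟩ := exists_gen_coeff hj hT he (SetLike.coe_mem (DirectSum.decompose (𝒜.deg T hT) a n))
  rw [hc]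
  have h1 : (𝒜.str.app (op T)).hom c ∈ Set.range (𝒜.str.app (op T)).hom ∪ {jS jL T e} := Or.inl ⟨c, rfl⟩
  have h2 : jS jL T e ∈ Set.range (𝒜.str.app (op T)).hom ∪ {jS jL T e} := Or.inr rfl
  exact mul_mem (Subring.subset_closure h1) (pow_mem (Subring.subset_closure h2) n)

include hL hj haug hq hover in
theorem isFinite_lift (hR : RelAmple.IsRelAmple p L) :
    IsFinite (pullback.lift (f := p) (g := (fibAlg p aug).π) 𝒜.toQCAlg.π q hover.symm) := by
  let P := pullback p (fibAlg p aug).π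
  let k : 𝒜.toQCAlg.spec ⟶ P := pullback.lift 𝒜.toQCAlg.π q hover.symm
  let fst : P ⟶ X := pullback.fst p (fibAlg p aug).π
  let snd : P ⟶ tgt p aug := pullback.snd p (fibAlg p aug).π
  show IsFinite k
  have hk1 : k ≫ fst = 𝒜.toQCAlg.π := pullback.lift_fst _ _ _
  have hk2 : k ≫ snd = q := pullback.lift_snd _ _ _
  haveI : IsAffineHom fst := MorphismProperty.pullback_fst p (fibAlg p aug).π inferInstance
  let I := Σ' (U : Y.Opens) (n : ℕ) (σ : Γ(CohB1.tensorPow L n, p ⁻¹ᵁ U)) (W T : X.Opens) (e : Γ(L, T)),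
    PLift (IsAffineOpen U ∧ 0 < n ∧ IsLocusOn σ W ∧ T ≤ W ∧ IsAffineOpen T ∧ GenOn L e)
  have hcov : ∀ x : X, ∃ i : I, x ∈ i.2.2.2.2.1 := fun x => by
    obtain ⟨U, hU, hxU, -⟩ := exists_isAffineOpen_mem_and_subset (X := Y) (x := p x) (U := ⊤) trivial
    obtain ⟨n, σ, W, hn, hW, hxW, -⟩ := exists_locus_of_isAmple hL (hR.2 ⟨U, hU⟩) (show x ∈ p ⁻¹ᵁ U from hxU)
    obtain ⟨U', e, hxU', he⟩ := TwistLib.exists_genOn hL x
    obtain ⟨T, hT, hxT, hle⟩ := exists_isAffineOpen_mem_and_subset (X := X) (x := x) (U := W ⊓ U') ⟨hxW, hxU'⟩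
    exact ⟨⟨U, n, σ, W, T, res L (fun y hy => (hle hy).2) e,
      ⟨hU, hn, hW, fun y hy => (hle hy).1, hT, he.res _⟩⟩, hxT⟩
  refine (HasAffineProperty.iff_of_iSup_eq_top (P := @IsFinite)
    (fun i : I => (⟨fst ⁻¹ᵁ i.2.2.2.2.1, i.2.2.2.2.2.2.down.2.2.2.2.1.preimage fst⟩ : P.affineOpens))
    (top_le_iff.mp fun z _ => ?_)).mpr ?_
  · obtain ⟨i, hi⟩ := hcov (fst z)
    exact Opens.mem_iSup.mpr ⟨i, hi⟩
  rintro ⟨U, n, σ, W, T, e, ⟨hU, hn, hW, hTW, hT, he⟩⟩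
  let E : P.Opens := fst ⁻¹ᵁ T
  have hkE : 𝒜.toQCAlg.π ⁻¹ᵁ T = k ⁻¹ᵁ E := by rw [← hk1]; rfl
  refine ⟨hkE ▸ hT.preimage 𝒜.toQCAlg.π, ?_⟩
  show RingHom.Finite (k ∣_ E).appTop.hom
  refine finite_restrict_appTop (V := 𝒜.toQCAlg.spec) (P := P) k E ?_
  have key : ∀ E' : P.Opens, E' = E → RingHom.Finite (k.app E').hom := by
    rintro E' rfl
    haveI : IsIso (𝒜.toQCAlg.gammaAff T hT) := by
      haveI := CycBdlLib.isIso_gammaMap 𝒜.toQCAlg
      rw [← 𝒜.toQCAlg.gammaMap_app T hT]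
      exact ((asIso 𝒜.toQCAlg.gammaMap).app (op T)).isIso_hom
    haveI : IsIso (𝒜.toQCAlg.spec.presheaf.map (eqToHom hkE).op) := Functor.map_isIso _ _
    let ψ := k.appLE E (𝒜.toQCAlg.π ⁻¹ᵁ T) hkE.le ≫ 𝒜.toQCAlg.gammaAff T hT
    suffices hψ : RingHom.Finite ψ.hom by
      haveI : IsIso (𝒜.toQCAlg.spec.presheaf.map (homOfLE hkE.le).op ≫ 𝒜.toQCAlg.gammaAff T hT) := by
        haveI : IsIso (𝒜.toQCAlg.spec.presheaf.map (homOfLE hkE.le).op) := by
          rw [show (homOfLE hkE.le) = eqToHom hkE from Subsingleton.elim _ _]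
          infer_instance
        infer_instance
      have : ψ = k.app E ≫ (𝒜.toQCAlg.spec.presheaf.map (homOfLE hkE.le).op ≫ 𝒜.toQCAlg.gammaAff T hT) := by
        simp only [ψ, Scheme.Hom.appLE, Category.assoc]
      rw [this, CommRingCat.hom_comp, RingHom.finite_respectsIso.cancel_right_isIso] at hψ
      exact hψ
    have hstr : ∀ r : Γ(X, T), ψ.hom (fst.app T r) = (𝒜.str.app (op T)).hom r := fun r => by
      refine Eq.trans ?_ (congr($(𝒜.toQCAlg.π_app_gammaAff T hT) r))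
      show (fst.app T ≫ k.appLE E (𝒜.toQCAlg.π ⁻¹ᵁ T) hkE.le ≫ 𝒜.toQCAlg.gammaAff T hT).hom r = _
      rw [Scheme.Hom.app_eq_appLE (f := fst), Scheme.Hom.appLE_comp_appLE_assoc]
      have : ∀ (g : 𝒜.toQCAlg.spec ⟶ X) (_ : g = 𝒜.toQCAlg.π) (h : 𝒜.toQCAlg.π ⁻¹ᵁ T ≤ g ⁻¹ᵁ T),
          g.appLE T (𝒜.toQCAlg.π ⁻¹ᵁ T) h = 𝒜.toQCAlg.π.app T := by
        rintro g rfl h; rw [Scheme.Hom.app_eq_appLE]
      rw [this _ hk1]
    have hTU : T ≤ p ⁻¹ᵁ U := hTW.trans hW.1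
    have hEU : E ≤ snd ⁻¹ᵁ ((fibAlg p aug).π ⁻¹ᵁ U) := fun z hz => by
      show (fibAlg p aug).π (snd z) ∈ U
      rw [← Scheme.Hom.comp_apply, show snd ≫ (fibAlg p aug).π = fst ≫ p from pullback.condition.symm]
      exact hTU hz
    let z := sV (powMap hL jL n) (p ⁻¹ᵁ U) σ
    have hz : augOver p aug U z = 0 := augOver_eq_zero haug hn (powMap_degMem hL hj _ _)
    let φ := (snd.appLE ((fibAlg p aug).π ⁻¹ᵁ U) E hEU).hom (sect (fibAlg p aug) U (pairElt z hz))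
    have hφ : ψ.hom φ = rres 𝒜 hTU z := by
      show (snd.appLE ((fibAlg p aug).π ⁻¹ᵁ U) E hEU ≫ k.appLE E (𝒜.toQCAlg.π ⁻¹ᵁ T) hkE.le ≫
        𝒜.toQCAlg.gammaAff T hT).hom _ = _
      rw [Scheme.Hom.appLE_comp_appLE_assoc]
      have hP : 𝒜.toQCAlg.π ⁻¹ᵁ (p ⁻¹ᵁ U) ≤ q ⁻¹ᵁ ((fibAlg p aug).π ⁻¹ᵁ U) := by
        rw [← Scheme.Hom.comp_preimage, ← hover]; exact le_rfl
      have : ∀ (g : 𝒜.toQCAlg.spec ⟶ tgt p aug) (_ : g = q)
          (h : 𝒜.toQCAlg.π ⁻¹ᵁ T ≤ g ⁻¹ᵁ ((fibAlg p aug).π ⁻¹ᵁ U)),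
          g.appLE ((fibAlg p aug).π ⁻¹ᵁ U) (𝒜.toQCAlg.π ⁻¹ᵁ T) h =
            q.appLE _ _ hP ≫ 𝒜.toQCAlg.spec.presheaf.map (homOfLE (𝒜.toQCAlg.π.preimage_mono hTU)).op := by
        rintro g rfl h; rw [Scheme.Hom.appLE_map]
      rw [this _ hk2]
      show (𝒜.toQCAlg.gammaAff T hT).hom ((𝒜.toQCAlg.spec.presheaf.map _).hom (q.appLE _ _ hP
        (sect (fibAlg p aug) U (pairElt z hz)))) = _
      rw [appLE_sect p 𝒜.toQCAlg (fibAlg p aug) (fibSnd p aug) hq hU hP, sect_res 𝒜.toQCAlg hTU,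
        gammaAff_sect 𝒜.toQCAlg hT]
      rfl
    obtain ⟨c, hc⟩ := (AmpleThLib.pS_genOn he n T le_rfl).2 (res _ hTU σ)
    simp only [AmpleLib.res_refl] at hc
    have hg : GenOn _ (res _ hTU σ) := TwistLib.genOn_of_genAt fun y hy =>
      (AmpleLib.genAt_res _ σ hy).mpr ((hW.2 y _).mp (hTW hy))
    obtain ⟨r, hr⟩ := (hg T le_rfl).2 (AmpleThLib.pS e n)
    simp only [AmpleLib.res_refl] at hr
    refine finite_of_adjoin ψ.hom (jS jL T e) hn (r := fst.app T r * φ) ?_ fun a => ?_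
    · rw [map_mul, hstr, hφ]
      dsimp only [z, rres]
      rw [← sV_res, ← sV_smul, hr, powMap_gen hL he]
    · have hsub : Set.range (𝒜.str.app (op T)).hom ⊆ Set.range ψ.hom := by
        rintro x ⟨r', hx⟩
        exact ⟨_, (hstr r').trans hx⟩
      exact Subring.closure_mono (Set.union_subset_union_left _ hsub) (mem_closure_gen hj hT he a)
  exact key

include hL hj haug hq hover in
theorem isProper_contraction (hR : RelAmple.IsRelAmple p L) : IsProper q := by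
  haveI := isFinite_lift hL hj haug hq hover hR
  rw [← pullback.lift_snd (f := p) (g := (fibAlg p aug).π) 𝒜.toQCAlg.π q hover.symm]
  infer_instance

include hq hover in
theorem compl_vertex_subset_range {V0 : 𝒜.toQCAlg.spec.Opens} {j0 : X ⟶ 𝒜.toQCAlg.spec}
    (hV0 : (V0 : Set 𝒜.toQCAlg.spec) = (Set.range j0.base)ᶜ) (hj0q : j0 ≫ q = p ≫ tgtVertex p aug)
    [IsProper q] : (Set.range (tgtVertex p aug).base)ᶜ ⊆ Set.range (V0.ι ≫ q).base := by
  intro c hc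
  obtain ⟨U, hU, hcU, -⟩ :=
    exists_isAffineOpen_mem_and_subset (X := Y) (x := (fibAlg p aug).π c) (U := ⊤) trivial
  obtain ⟨w, rfl⟩ := RelConeLib.exists_ι_eq (fibAlg p aug) hU c hcU
  let a2 : (fibAlg p aug).presheaf.obj (op U) ⟶ Γ(Y, U) := (fibFst p aug).hom.app (op U)
  have c2 : hU.fromSpec ≫ tgtVertex p aug = Spec.map a2 ≫ (fibAlg p aug).ι U hU := fromSpec_tgtVertex p aug hU
  obtain ⟨f, hf0, hfw⟩ : ∃ f, a2.hom f = 0 ∧ f ∉ w.asIdeal := by
    by_contra hne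
    push Not at hne
    have hsurj : Function.Surjective a2.hom := fun r => ⟨(fibStr p aug).app (op U) r, rfl⟩
    obtain ⟨s, hs⟩ := (range_comap_of_surjective _ _ hsurj).ge
      (show w ∈ PrimeSpectrum.zeroLocus (RingHom.ker a2.hom : Set _) from fun f hf => hne f hf)
    refine hc ⟨hU.fromSpec s, ?_⟩
    exact (congrArg (fun h => h s) (congrArg (fun g : Spec Γ(Y, U) ⟶ tgt p aug => g.base) c2)).trans
      (congrArg (fun v => (fibAlg p aug).ι U hU v) hs)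
  have hmem : ∀ x, (fibAlg p aug).ι U hU w ∈ (tgt p aug).basicOpen (sect (fibAlg p aug) U x) ↔ x ∉ w.asIdeal :=
    fun x => by
      rw [ι_mem_basicOpen_sect _ hU le_rfl,
        show ((fibAlg p aug).presheaf.map (homOfLE (le_refl U)).op).hom x = x from
          ConcreteCategory.congr_hom ((fibAlg p aug).presheaf.map_id (op U)) _]
  obtain ⟨v, hv⟩ : (fibAlg p aug).ι U hU w ∈ Set.range q.base := by
    by_contra hnot
    let R : (tgt p aug).Opens := ⟨(Set.range q.base)ᶜ, q.isClosedMap.isClosed_range.isOpen_compl⟩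
    obtain ⟨φ, hφR, hcφ⟩ := (hU.preimage (fibAlg p aug).π).exists_basicOpen_le (V := R)
      ⟨(fibAlg p aug).ι U hU w, hnot⟩ hcU
    let x := ((fibAlg p aug).gammaMap.app (op U)).hom φ
    have hx : sect (fibAlg p aug) U x = φ := sect_gammaMap _ _ φ
    rw [← hx] at hcφ hφR
    have hP : 𝒜.toQCAlg.π ⁻¹ᵁ (p ⁻¹ᵁ U) ≤ q ⁻¹ᵁ ((fibAlg p aug).π ⁻¹ᵁ U) := by
      rw [← Scheme.Hom.comp_preimage, ← hover]; exact le_rfl
    have hbot : 𝒜.toQCAlg.spec.basicOpen
        (q.appLE ((fibAlg p aug).π ⁻¹ᵁ U) _ hP (sect (fibAlg p aug) U x)) = ⊥ := by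
      rw [Scheme.basicOpen_appLE]
      exact le_bot_iff.mp fun y hy => hφR hy.2 ⟨y, rfl⟩
    rw [appLE_sect p 𝒜.toQCAlg (fibAlg p aug) (fibSnd p aug) hq hU hP] at hbot
    obtain ⟨m, hm⟩ := (Scheme.isNilpotent_iff_basicOpen_eq_bot_of_isCompact
      (𝒜.toQCAlg.π.isCompact_preimage (p.isCompact_preimage hU.isCompact)) _).mpr hbot
    have hm' : (uApp p 𝒜.toQCAlg (fibAlg p aug) (fibSnd p aug) U x) ^ m = 0 := by
      have h3 := congrArg (𝒜.toQCAlg.gammaMap.app (op (p ⁻¹ᵁ U))).hom hm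
      rw [map_pow, gammaMap_sect] at h3
      exact h3.trans (map_zero _)
    have hfx : f * x ^ m = 0 := by
      refine Subtype.ext (Prod.ext ?_ ?_)
      · show f.1.1 * _ = 0
        rw [show f.1.1 = 0 from hf0, zero_mul]
      · show f.1.2 * _ = 0
        rw [show (x ^ m).1.2 = uApp p 𝒜.toQCAlg (fibAlg p aug) (fibSnd p aug) U (x ^ m) from rfl, map_pow, hm',
          mul_zero]
    exact (w.isPrime.mem_or_mem (hfx ▸ zero_mem w.asIdeal)).elim hfw fun h =>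
      (hmem x).mp hcφ (w.isPrime.mem_of_pow_mem _ h)
  have hv0 : v ∈ V0 := by
    show v ∈ (V0 : Set _)
    rw [hV0]
    rintro ⟨x, rfl⟩
    exact hc ⟨p x, (congr($hj0q x)).symm.trans hv⟩
  exact ⟨⟨v, hv0⟩, hv⟩

end EGA2ContractLib

end
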