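import Mathlib
import Groth.Agent.EGA2ContractLib.Proper
import Groth.Agent.S3569

/-!
# The canonical morphism to the spectrum of the direct image of the functions of the line bundle
-/

set_option autoImplicit false
set_option linter.all false
universe u

open CategoryTheory CategoryTheory.Limits AlgebraicGeometry TopologicalSpace Opposite
open EGA2SymLib

noncomputable section

namespace EGA2ContractLib

theorem hom_ext_appLE {V C : Scheme.{u}} (f f' : V ⟶ C) {G : C.Opens} (hG : IsAffineOpen G) {P : V.Opens}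
    (h : P ≤ f ⁻¹ᵁ G) (h' : P ≤ f' ⁻¹ᵁ G) (e : f.appLE G P h = f'.appLE G P h') : P.ι ≫ f = P.ι ≫ f' := by
  have key : ∀ (k : V ⟶ C) (hk : P ≤ k ⁻¹ᵁ G), P.toSpecΓ ≫ Spec.map (k.appLE G P hk) ≫ hG.fromSpec = P.ι ≫ k := by
    intro k hk
    rw [← Category.assoc, Scheme.Opens.toSpecΓ_SpecMap_appLE, Category.assoc, hG.toSpecΓ_fromSpec,
      Scheme.Hom.resLE_comp_ι]
  rw [← key f h, ← key f' h', e]

theorem isIso_specMap {Y : Scheme.{u}} {A B : RelSpec.QCAlg Y} (φ : A ⟶ B) [IsIso φ] :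
    IsIso (RelSpec.QCAlg.specMap φ) := by
  refine ⟨RelSpec.QCAlg.specMap (inv φ), RelConeLib.ext_of_charts _ _ fun x => ?_,
    RelConeLib.ext_of_charts _ _ fun x => ?_⟩
  · obtain ⟨U, hU, z, rfl⟩ := RelConeLib.exists_chart B x
    refine ⟨_, B.ι U hU, inferInstance, ⟨z, rfl⟩, ?_⟩
    rw [reassoc_of% (RelSpec.QCAlg.ι_specMap U hU φ), RelSpec.QCAlg.ι_specMap U hU (inv φ),
      ← Spec.map_comp_assoc, Category.comp_id, ← NatTrans.comp_app, ← RelSpec.QCAlg.comp_hom, IsIso.inv_hom_id,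
      RelSpec.QCAlg.id_hom, NatTrans.id_app, Spec.map_id, Category.id_comp]
  · obtain ⟨U, hU, z, rfl⟩ := RelConeLib.exists_chart A x
    refine ⟨_, A.ι U hU, inferInstance, ⟨z, rfl⟩, ?_⟩
    rw [reassoc_of% (RelSpec.QCAlg.ι_specMap U hU (inv φ)), RelSpec.QCAlg.ι_specMap U hU φ,
      ← Spec.map_comp_assoc, Category.comp_id, ← NatTrans.comp_app, ← RelSpec.QCAlg.comp_hom, IsIso.hom_inv_id,
      RelSpec.QCAlg.id_hom, NatTrans.id_app, Spec.map_id, Category.id_comp]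

variable {X Y : Scheme.{u}} (p : X ⟶ Y) [IsProper p] {L : X.Modules}
  {𝒜 : RelProj.QCGrAlg X} (aug : 𝒜.toQCAlg ⟶ RelSpec.QCAlg.unit X)

/-- pairs as functions on the cone -/
def toDirectImage : fibAlg p aug ⟶ RelSpec.QCAlg.directImage (𝒜.toQCAlg.π ≫ p) where
  hom :=
    { app := fun U => CommRingCat.ofHom ((sect 𝒜.toQCAlg (p ⁻¹ᵁ U.unop)).comp
        (uApp p 𝒜.toQCAlg (fibAlg p aug) (fibSnd p aug) U.unop))
      naturality := fun {U V} i => by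
        refine CommRingCat.hom_ext (RingHom.ext fun x => ?_)
        exact (sect_res 𝒜.toQCAlg (p.preimage_mono (leOfHom i.unop)) x.1.2).symm }
  comm := by
    ext U r
    show sect 𝒜.toQCAlg (p ⁻¹ᵁ U) ((𝒜.str.app (op (p ⁻¹ᵁ U))).hom ((p.app U).hom r)) = _
    exact congr($(NatTrans.congr_app (CycBdlLib.str_toF 𝒜.toQCAlg) (op (p ⁻¹ᵁ U))) ((p.app U).hom r))

variable (hθ : IsIso p.c)

include hθ in
theorem toDirectImage_bijective (U : Y.Opens) :
    Function.Bijective ((toDirectImage p aug).hom.app (op U)).hom := by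
  haveI : IsIso (p.app U) := inferInstanceAs (IsIso (p.c.app (op U)))
  have hb := ConcreteCategory.bijective_of_isIso (p.app U)
  refine ⟨fun x y h => ?_, fun a => ?_⟩
  · have h2 : x.1.2 = y.1.2 := by
      have := congrArg (𝒜.toQCAlg.gammaMap.app (op (p ⁻¹ᵁ U))).hom
        (show sect 𝒜.toQCAlg (p ⁻¹ᵁ U) x.1.2 = sect 𝒜.toQCAlg (p ⁻¹ᵁ U) y.1.2 from h)
      rwa [gammaMap_sect, gammaMap_sect] at this
    refine Subtype.ext (Prod.ext (hb.1 ?_) h2)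
    exact ((mem_pairs p aug).mp x.2).symm.trans ((congrArg (augOver p aug U) h2).trans ((mem_pairs p aug).mp y.2))
  · let z := (𝒜.toQCAlg.gammaMap.app (op (p ⁻¹ᵁ U))).hom
      (show Γ(𝒜.toQCAlg.spec, 𝒜.toQCAlg.π ⁻¹ᵁ (p ⁻¹ᵁ U)) from a)
    obtain ⟨r, hr⟩ := hb.2 (augOver p aug U z)
    exact ⟨⟨(r, z), (mem_pairs p aug).mpr hr.symm⟩, sect_gammaMap 𝒜.toQCAlg (p ⁻¹ᵁ U) a⟩

include hθ in
theorem isIso_toDirectImage : IsIso (toDirectImage p aug) := by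
  haveI : ∀ U, IsIso ((toDirectImage p aug).hom.app U) := fun U =>
    (ConcreteCategory.isIso_iff_bijective _).mpr (toDirectImage_bijective p aug hθ U.unop)
  haveI : IsIso (toDirectImage p aug).hom := NatIso.isIso_of_isIso_app _
  exact ⟨⟨inv (toDirectImage p aug).hom, by rw [IsIso.comp_inv_eq, (toDirectImage p aug).comm]⟩,
    RelSpec.QCAlg.hom_ext (IsIso.hom_inv_id _), RelSpec.QCAlg.hom_ext (IsIso.inv_hom_id _)⟩

/-- the defining equation of the canonical morphism -/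
def IsCanonical (q' : 𝒜.toQCAlg.spec ⟶ (RelSpec.QCAlg.directImage (𝒜.toQCAlg.π ≫ p)).spec)
    (hq'π : q' ≫ (RelSpec.QCAlg.directImage (𝒜.toQCAlg.π ≫ p)).π = 𝒜.toQCAlg.π ≫ p) : Prop :=
  AffAlg.algHom (RelSpec.QCAlg.directImage (𝒜.toQCAlg.π ≫ p)).π (𝒜.toQCAlg.π ≫ p) q' hq'π =
    (RelSpec.QCAlg.directImage (𝒜.toQCAlg.π ≫ p)).gammaMap

variable {q' : 𝒜.toQCAlg.spec ⟶ (RelSpec.QCAlg.directImage (𝒜.toQCAlg.π ≫ p)).spec}
  {hq'π : q' ≫ (RelSpec.QCAlg.directImage (𝒜.toQCAlg.π ≫ p)).π = 𝒜.toQCAlg.π ≫ p} (hq' : IsCanonical p q' hq'π)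

include hq' in
theorem appLE_canonical {U : Y.Opens} (hU : IsAffineOpen U) :
    q'.appLE ((RelSpec.QCAlg.directImage (𝒜.toQCAlg.π ≫ p)).π ⁻¹ᵁ U) ((𝒜.toQCAlg.π ≫ p) ⁻¹ᵁ U)
      (CycBdlLib.preimage_le hq'π U) = (RelSpec.QCAlg.directImage (𝒜.toQCAlg.π ≫ p)).gammaAff U hU := by
  rw [← RelSpec.QCAlg.gammaMap_app _ U hU, ← Groth.Agent.S3569.algHom_app _ _ q' hq'π U]
  exact NatTrans.congr_app hq' (op U)

include hq' in
theorem isContraction_canonical :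
    IsContraction p aug (q' ≫ RelSpec.QCAlg.specMap (toDirectImage p aug)) := by
  obtain ⟨q, hq, hover⟩ := exists_contraction p aug
  suffices e : q' ≫ RelSpec.QCAlg.specMap (toDirectImage p aug) = q by rw [e]; exact hq
  refine RelConeLib.ext_of_charts _ _ fun v => ?_
  obtain ⟨U, hU, hvU, -⟩ :=
    exists_isAffineOpen_mem_and_subset (X := Y) (x := p (𝒜.toQCAlg.π v)) (U := ⊤) trivial
  let P : 𝒜.toQCAlg.spec.Opens := (𝒜.toQCAlg.π ≫ p) ⁻¹ᵁ U
  refine ⟨_, P.ι, inferInstance, by rw [Scheme.Opens.range_ι]; exact hvU, ?_⟩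
  have hle : P ≤ q ⁻¹ᵁ ((fibAlg p aug).π ⁻¹ᵁ U) := CycBdlLib.preimage_le hover U
  have hle2 : (RelSpec.QCAlg.directImage (𝒜.toQCAlg.π ≫ p)).π ⁻¹ᵁ U ≤
      RelSpec.QCAlg.specMap (toDirectImage p aug) ⁻¹ᵁ ((fibAlg p aug).π ⁻¹ᵁ U) :=
    CycBdlLib.preimage_le (RelSpec.QCAlg.specMap_π _) U
  refine hom_ext_appLE _ _ (hU.preimage (fibAlg p aug).π)
    ((CycBdlLib.preimage_le hq'π U).trans (q'.preimage_mono hle2)) hle ?_
  rw [← Scheme.Hom.appLE_comp_appLE q' (RelSpec.QCAlg.specMap (toDirectImage p aug)) _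
    ((RelSpec.QCAlg.directImage (𝒜.toQCAlg.π ≫ p)).π ⁻¹ᵁ U) P hle2 (CycBdlLib.preimage_le hq'π U),
    appLE_canonical p hq' hU]
  haveI := CycBdlLib.isIso_gammaMap (fibAlg p aug)
  refine CommRingCat.hom_ext (RingHom.ext fun b => ?_)
  rw [← sect_gammaMap (fibAlg p aug) U b]
  refine Eq.trans ?_ (appLE_sect p 𝒜.toQCAlg (fibAlg p aug) (fibSnd p aug) hq hU hle _).symm
  show ((RelSpec.QCAlg.specMap (toDirectImage p aug)).appLE _ _ hle2 ≫
    (RelSpec.QCAlg.directImage (𝒜.toQCAlg.π ≫ p)).gammaAff U hU).hom _ = _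
  rw [CycBdlLib.gammaAff_specMap _ hU]
  show ((toDirectImage p aug).hom.app (op U)).hom (((fibAlg p aug).gammaAff U hU).hom _) = _
  rw [gammaAff_sect (fibAlg p aug) hU]
  rfl

include hq' in
/-- the direct image of the functions along the canonical morphism -/
theorem isIso_c_canonical : IsIso q'.c := by
  let D := RelSpec.QCAlg.directImage (𝒜.toQCAlg.π ≫ p)
  let J := Σ U : Y.affineOpens, Γ(D.spec, D.π ⁻¹ᵁ U.1)
  let B : J → D.spec.Opens := fun j => D.spec.basicOpen j.2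
  have hb : Opens.IsBasis (Set.range B) := by
    refine Opens.isBasis_iff_nbhd.mpr fun {W z} hz => ?_
    obtain ⟨U, hU, hzU, -⟩ := exists_isAffineOpen_mem_and_subset (X := Y) (x := D.π z) (U := ⊤) trivial
    obtain ⟨f, hf, hzf⟩ := (hU.preimage D.π).exists_basicOpen_le (V := W) ⟨z, hz⟩ hzU
    exact ⟨_, ⟨⟨⟨U, hU⟩, f⟩, rfl⟩, hzf, hf⟩
  have happ : ∀ j, IsIso (q'.c.app (op (B j))) := by
    rintro ⟨⟨U, hU⟩, φ⟩
    have hP : (𝒜.toQCAlg.π ≫ p) ⁻¹ᵁ U = q' ⁻¹ᵁ (D.π ⁻¹ᵁ U) := by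
      rw [← Scheme.Hom.comp_preimage, hq'π]
    have hiso : IsIso (q'.app (D.π ⁻¹ᵁ U)) := by
      have h1 : IsIso (q'.appLE (D.π ⁻¹ᵁ U) ((𝒜.toQCAlg.π ≫ p) ⁻¹ᵁ U) hP.le) := by
        rw [appLE_canonical p hq' hU, ← D.gammaMap_app U hU]
        haveI := CycBdlLib.isIso_gammaMap D
        exact ((asIso D.gammaMap).app (op U)).isIso_hom
      have : ∀ (P : 𝒜.toQCAlg.spec.Opens) (e : P = q' ⁻¹ᵁ (D.π ⁻¹ᵁ U)),
          IsIso (q'.appLE (D.π ⁻¹ᵁ U) P e.le) → IsIso (q'.app (D.π ⁻¹ᵁ U)) := by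
        rintro P rfl h; rw [Scheme.Hom.app_eq_appLE]; exact h
      exact this _ hP h1
    let _i1 := (D.spec.presheaf.map (homOfLE (D.spec.basicOpen_le φ)).op).hom.toAlgebra
    let _i2 := (𝒜.toQCAlg.spec.presheaf.map (homOfLE (q'.preimage_mono (D.spec.basicOpen_le φ))).op).hom.toAlgebra
    have hY : IsLocalization.Away φ Γ(D.spec, D.spec.basicOpen φ) := (hU.preimage D.π).isLocalization_basicOpen φ
    have hX : IsLocalization.Away (q'.app _ φ) Γ(𝒜.toQCAlg.spec, q' ⁻¹ᵁ D.spec.basicOpen φ) := by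
      have key : ∀ (W : 𝒜.toQCAlg.spec.Opens) (e : W = 𝒜.toQCAlg.spec.basicOpen (q'.app _ φ)) (hW : W ≤ q' ⁻¹ᵁ (D.π ⁻¹ᵁ U)),
          letI := (𝒜.toQCAlg.spec.presheaf.map (homOfLE hW).op).hom.toAlgebra
          IsLocalization.Away (q'.app _ φ) Γ(𝒜.toQCAlg.spec, W) := by
        rintro W rfl hW
        exact isLocalization_basicOpen_of_qcqs
          (hP ▸ (𝒜.toQCAlg.π ≫ p).isCompact_preimage hU.isCompact)
          (hP ▸ (𝒜.toQCAlg.π ≫ p).isQuasiSeparated_preimage hU.isQuasiSeparated) _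
      exact key _ (q'.preimage_basicOpen φ) _
    let e := (asIso (q'.app (D.π ⁻¹ᵁ U))).commRingCatIsoToRingEquiv
    refine (ConcreteCategory.isIso_iff_bijective _).mpr ?_
    have hu : IsUnit ((q'.app (D.spec.basicOpen φ)).hom (algebraMap _ Γ(D.spec, D.spec.basicOpen φ) φ)) :=
      (IsLocalization.Away.algebraMap_isUnit φ).map _
    have hsq : ∀ a, (q'.app (D.spec.basicOpen φ)).hom (algebraMap _ Γ(D.spec, D.spec.basicOpen φ) a) =
        algebraMap _ Γ(𝒜.toQCAlg.spec, q' ⁻¹ᵁ D.spec.basicOpen φ) ((q'.app (D.π ⁻¹ᵁ U)).hom a) := fun a =>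
      congr($(q'.naturality (homOfLE (D.spec.basicOpen_le φ)).op) a)
    haveI := hY
    haveI := hX
    have hM : Submonoid.map e.toMonoidHom (Submonoid.powers φ) = Submonoid.powers ((q'.app (D.π ⁻¹ᵁ U)).hom φ) :=
      Submonoid.map_powers _ φ
    let E := IsLocalization.ringEquivOfRingEquiv (M := Submonoid.powers φ)
      (T := Submonoid.powers ((q'.app (D.π ⁻¹ᵁ U)).hom φ)) Γ(D.spec, D.spec.basicOpen φ)
      Γ(𝒜.toQCAlg.spec, q' ⁻¹ᵁ D.spec.basicOpen φ) e hM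
    have hE : E.toRingHom = (q'.app (D.spec.basicOpen φ)).hom := by
      refine IsLocalization.ringHom_ext (Submonoid.powers φ) (RingHom.ext fun a => ?_)
      exact (IsLocalization.ringEquivOfRingEquiv_eq hM a).trans (hsq a).symm
    show Function.Bijective (q'.app (D.spec.basicOpen φ)).hom
    rw [← hE]
    exact E.bijective
  have hS := TopCat.Sheaf.isIso_iff_isIso_basis hb
    (φ := (⟨q'.c⟩ : D.spec.sheaf ⟶ (TopCat.Sheaf.pushforward CommRingCat q'.base).obj 𝒜.toQCAlg.spec.sheaf)) happ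
  exact inferInstanceAs (IsIso ((TopCat.Sheaf.forget CommRingCat _).map
    (⟨q'.c⟩ : D.spec.sheaf ⟶ (TopCat.Sheaf.pushforward CommRingCat q'.base).obj 𝒜.toQCAlg.spec.sheaf)))

end EGA2ContractLib

end
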