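import Mathlib
import Groth.Agent.EGA2ContractLib.Canon
import Groth.Agent.S3567

/-!
# Factorisation of contractions through the canonical one
-/

set_option autoImplicit false
set_option linter.all false
universe u

open CategoryTheory CategoryTheory.Limits AlgebraicGeometry TopologicalSpace Opposite
open EGA2SymLib

noncomputable section

namespace EGA2ContractLib

theorem surjective_of_isIso_c {X Y : Scheme.{u}} (p : X ⟶ Y) [IsProper p] (hθ : IsIso p.c) : Surjective p := by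
  refine ⟨fun y => ?_⟩
  by_contra hy
  let U : Y.Opens := ⟨(Set.range p.base)ᶜ, p.isClosedMap.isClosed_range.isOpen_compl⟩
  have hU : p ⁻¹ᵁ U = ⊥ := le_bot_iff.mp fun x hx => hx ⟨x, rfl⟩
  haveI : Subsingleton Γ(X, p ⁻¹ᵁ U) :=
    CommRingCat.subsingleton_of_isTerminal (hU ▸ X.sheaf.isTerminalOfEmpty)
  haveI : IsIso (p.app U) := inferInstanceAs (IsIso (p.c.app (op U)))
  haveI : Subsingleton Γ(Y, U) := (ConcreteCategory.bijective_of_isIso (p.app U)).1.subsingleton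
  have hz : (0 : Γ(Y, U)) = 1 := Subsingleton.elim _ _
  have := congrArg (Y.presheaf.germ U y hy).hom hz
  rw [map_zero, map_one] at this
  exact zero_ne_one this

theorem isQuotientMap_of_proper {X Y : Scheme.{u}} (p : X ⟶ Y) [IsProper p] [Surjective p] :
    Topology.IsQuotientMap p.base :=
  IsClosedMap.isQuotientMap p.isClosedMap p.continuous p.surjective

variable {X Y : Scheme.{u}} (p : X ⟶ Y) [IsProper p] {L : X.Modules} [Coh.IsQCoh L]
  {𝒜 : RelProj.QCGrAlg X} {jL : L ⟶ 𝒜.toModule} (hL : PicF.IsInvertible L) (hA : RelProj.IsGrSymAlg L 𝒜 jL)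
  (h0 : RelCone.StrZeroBij 𝒜) {aug : 𝒜.toQCAlg ⟶ RelSpec.QCAlg.unit X} (haug : RelCone.IsAugmentation 𝒜 aug)
  {j0 : X ⟶ 𝒜.toQCAlg.spec} (hj0 : RelCone.IsVertex 𝒜 aug j0) (hθ : IsIso p.c)
  (hamp : RelAmple.IsRelAmple p L)
  {q' : 𝒜.toQCAlg.spec ⟶ (RelSpec.QCAlg.directImage (𝒜.toQCAlg.π ≫ p)).spec}
  {hq'π : q' ≫ (RelSpec.QCAlg.directImage (𝒜.toQCAlg.π ≫ p)).π = 𝒜.toQCAlg.π ≫ p} (hq' : IsCanonical p q' hq'π)
  {V0 : 𝒜.toQCAlg.spec.Opens} (hV0 : (V0 : Set 𝒜.toQCAlg.spec) = (Set.range j0.base)ᶜ)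

include hL hA h0 haug hj0 hθ hamp hq' hV0 in
/-- the structure of the canonical contraction -/
theorem canonical_data : IsProper q' ∧ Surjective q' ∧ IsIso q'.c ∧
    ∃ ε' : Y ⟶ (RelSpec.QCAlg.directImage (𝒜.toQCAlg.π ≫ p)).spec,
      ε' ≫ (RelSpec.QCAlg.directImage (𝒜.toQCAlg.π ≫ p)).π = 𝟙 Y ∧ j0 ≫ q' = p ≫ ε' ∧
        IsOpenImmersion (V0.ι ≫ q') ∧ Set.range (V0.ι ≫ q').base = (Set.range ε'.base)ᶜ := by
  haveI := isIso_toDirectImage p aug hθ
  haveI := isIso_specMap (toDirectImage p aug)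
  let Θ := RelSpec.QCAlg.specMap (toDirectImage p aug)
  let qT := q' ≫ Θ
  have hq : IsContraction p aug qT := isContraction_canonical p aug hq'
  have hover : qT ≫ (fibAlg p aug).π = 𝒜.toQCAlg.π ≫ p := by
    rw [Category.assoc, RelSpec.QCAlg.specMap_π, hq'π]
  obtain rfl : V0 = RelCone.pointedCone 𝒜 :=
    Opens.ext (hV0.trans (RelConeLib.compl_vertex h0 haug hj0).symm)
  haveI := isProper_contraction hL hA haug hq hover hamp
  have hvert := vertex_contraction hq hj0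
  obtain ⟨O, hO, hpre, hdisj⟩ := exists_open hL hA haug hq hover hamp
  obtain ⟨h1, h2⟩ := isOpenImmersion_of_restrict qT hpre
  have hsub := compl_vertex_subset_range hq hover hV0 hvert
  have hq'eq : q' = qT ≫ inv Θ := by rw [Category.assoc, IsIso.hom_inv_id, Category.comp_id]
  let ε' := tgtVertex p aug ≫ inv Θ
  have hεπ : ε' ≫ (RelSpec.QCAlg.directImage (𝒜.toQCAlg.π ≫ p)).π = 𝟙 Y := by
    rw [Category.assoc, show inv Θ ≫ (RelSpec.QCAlg.directImage (𝒜.toQCAlg.π ≫ p)).π = (fibAlg p aug).π by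
      rw [IsIso.inv_comp_eq, RelSpec.QCAlg.specMap_π], tgtVertex_π]
  have hjq : j0 ≫ q' = p ≫ ε' := by rw [hq'eq, ← Category.assoc, hvert, Category.assoc]
  have hrange : Set.range ((RelCone.pointedCone 𝒜).ι ≫ q').base = (Set.range ε'.base)ᶜ := by
    have e : ((RelCone.pointedCone 𝒜).ι ≫ q') = ((RelCone.pointedCone 𝒜).ι ≫ qT) ≫ inv Θ := by
      rw [Category.assoc, ← hq'eq]
    have hb : Function.Bijective (inv Θ).base := (inv Θ).homeomorph.bijective
    ext c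
    obtain ⟨c, rfl⟩ := hb.2 c
    rw [e]
    constructor
    · rintro ⟨v, hv⟩ ⟨y, hy⟩
      have hv' : ((RelCone.pointedCone 𝒜).ι ≫ qT).base v = (tgtVertex p aug).base y := hb.1 (hv.trans hy.symm)
      exact hdisj y (hv' ▸ (h2.le ⟨v, rfl⟩))
    · intro hc
      obtain ⟨v, hv⟩ := hsub (show c ∈ (Set.range (tgtVertex p aug).base)ᶜ from fun ⟨y, hy⟩ => hc ⟨y, congrArg _ hy⟩)
      exact ⟨v, congrArg (inv Θ).base hv⟩
  haveI : IsProper q' := hq'eq ▸ inferInstance
  haveI := surjective_of_isIso_c p hθ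
  refine ⟨inferInstance, ⟨fun c => ?_⟩, isIso_c_canonical p hq', ε', hεπ, hjq, ?_, hrange⟩
  · by_cases hc : c ∈ Set.range ε'.base
    · obtain ⟨y, rfl⟩ := hc
      obtain ⟨x, rfl⟩ := p.surjective y
      exact ⟨j0 x, congr($hjq x)⟩
    · obtain ⟨v, hv⟩ := hrange.ge hc
      exact ⟨v.1, hv⟩
  · rw [hq'eq, ← Category.assoc]
    infer_instance

variable {C : Scheme.{u}} {g : C ⟶ Y} {ε : Y ⟶ C} (hε : ε ≫ g = 𝟙 Y) {q : 𝒜.toQCAlg.spec ⟶ C}
  (hqg : q ≫ g = 𝒜.toQCAlg.π ≫ p) (hjq : j0 ≫ q = p ≫ ε)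

include hL hA h0 haug hj0 hθ hamp hq' hqg hjq in
theorem existsUnique_factor :
    ∃! u : (RelSpec.QCAlg.directImage (𝒜.toQCAlg.π ≫ p)).spec ⟶ C,
      u ≫ g = (RelSpec.QCAlg.directImage (𝒜.toQCAlg.π ≫ p)).π ∧ q' ≫ u = q := by
  obtain ⟨hP, hS, hc, ε', hεπ, hjq', hV, hrange⟩ := canonical_data p hL hA h0 haug hj0 hθ hamp hq'
    (V0 := ⟨(Set.range j0.base)ᶜ, (RelConeLib.isClosedImmersion_vertex hj0).base_closed.isClosed_range.isOpen_compl⟩) rfl
  haveI := hP
  haveI := hS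
  haveI := hc
  obtain ⟨hinj, hex⟩ := Groth.Agent.S3567.result q' (isQuotientMap_of_proper q') C
  have hsec : Function.Injective ε'.base := fun y y' h => by
    have := congrArg (RelSpec.QCAlg.directImage (𝒜.toQCAlg.π ≫ p)).π.base h
    rwa [← Scheme.Hom.comp_apply, ← Scheme.Hom.comp_apply, hεπ] at this
  have hconst : ∀ v w, q'.base v = q'.base w → q.base v = q.base w := by
    have hmix : ∀ v x, v ∉ Set.range j0.base → q'.base v ≠ q'.base (j0.base x) := fun v x hv h => by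
      have h1 : q'.base v ∈ (Set.range ε'.base)ᶜ := hrange.le ⟨⟨v, hv⟩, rfl⟩
      exact h1 ⟨p x, ((congr($hjq' x)).symm.trans h.symm)⟩
    intro v w h
    by_cases hv : v ∈ Set.range j0.base <;> by_cases hw : w ∈ Set.range j0.base
    · obtain ⟨x, rfl⟩ := hv
      obtain ⟨x', rfl⟩ := hw
      have h1 : p x = p x' := hsec ((congr($hjq' x)).symm.trans (h.trans (congr($hjq' x'))))
      exact (congr($hjq x)).trans ((congrArg ε.base h1).trans (congr($hjq x')).symm)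
    · obtain ⟨x, rfl⟩ := hv
      exact absurd h.symm (hmix w x hw)
    · obtain ⟨x, rfl⟩ := hw
      exact absurd h (hmix v x hv)
    · have h1 : (⟨v, hv⟩ : (⟨(Set.range j0.base)ᶜ,
        (RelConeLib.isClosedImmersion_vertex hj0).base_closed.isClosed_range.isOpen_compl⟩ : 𝒜.toQCAlg.spec.Opens)) =
          ⟨w, hw⟩ := hV.base_open.injective h
      exact congrArg q.base (congrArg Subtype.val h1)
  obtain ⟨u, hu⟩ := hex q hconst
  refine ⟨u, ⟨(Groth.Agent.S3567.result q' (isQuotientMap_of_proper q') Y).1 _ _ ?_, hu⟩, fun u' hu' => hinj _ _ (hu'.2.trans hu.symm)⟩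
  rw [reassoc_of% hu, hqg, hq'π]

include hL hA h0 haug hj0 hθ hamp hq' hε hqg hjq hV0 in
theorem factor_props [IsProper q] (hqo : IsOpenImmersion (V0.ι ≫ q))
    (hqr : Set.range (V0.ι ≫ q).base = (Set.range ε.base)ᶜ)
    (u : (RelSpec.QCAlg.directImage (𝒜.toQCAlg.π ≫ p)).spec ⟶ C)
    (hug : u ≫ g = (RelSpec.QCAlg.directImage (𝒜.toQCAlg.π ≫ p)).π) (hu : q' ≫ u = q) :
    UniversallyClosed u ∧ Function.Surjective u.base ∧ UniversallyInjective u ∧
      ∀ W : (RelSpec.QCAlg.directImage (𝒜.toQCAlg.π ≫ p)).spec.Opens,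
        (W : Set (RelSpec.QCAlg.directImage (𝒜.toQCAlg.π ≫ p)).spec) = (q'.base '' Set.range j0.base)ᶜ →
          IsOpenImmersion (W.ι ≫ u) ∧ Set.range (W.ι ≫ u).base = (Set.range ε.base)ᶜ := by
  obtain ⟨hP, hS, hc, ε', hεπ, hjq', hV, hrange⟩ := canonical_data p hL hA h0 haug hj0 hθ hamp hq' hV0
  haveI := hP
  haveI := hS
  haveI := surjective_of_isIso_c p hθ
  let π' := (RelSpec.QCAlg.directImage (𝒜.toQCAlg.π ≫ p)).π
  have heu : ε' ≫ u = ε := by
    haveI := hθ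
    refine (Groth.Agent.S3567.result p (isQuotientMap_of_proper p) C).1 _ _ ?_
    rw [← Category.assoc, ← hjq', Category.assoc, hu, hjq]
  haveI : IsClosedImmersion ε' := by
    haveI : IsClosedImmersion (ε' ≫ π') := by rw [show ε' ≫ π' = 𝟙 Y from hεπ]; infer_instance
    exact IsClosedImmersion.of_comp ε' π'
  let W₀ : (RelSpec.QCAlg.directImage (𝒜.toQCAlg.π ≫ p)).spec.Opens := (V0.ι ≫ q').opensRange
  have hW₀ : (W₀ : Set (RelSpec.QCAlg.directImage (𝒜.toQCAlg.π ≫ p)).spec) = (Set.range ε'.base)ᶜ := hrange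
  have hWu : IsOpenImmersion (W₀.ι ≫ u) ∧ Set.range (W₀.ι ≫ u).base = (Set.range ε.base)ᶜ := by
    haveI := hqo
    have e : W₀.ι ≫ u = (V0.ι ≫ q').isoOpensRange.inv ≫ (V0.ι ≫ q) := by
      rw [← hu, ← Category.assoc V0.ι q' u, ← Category.assoc, Scheme.Hom.isoOpensRange_inv_comp]
    rw [e]
    refine ⟨inferInstance, ?_⟩
    rw [← hqr]
    ext c
    constructor
    · rintro ⟨z, rfl⟩
      exact ⟨_, rfl⟩
    · rintro ⟨v, rfl⟩
      obtain ⟨z, hz⟩ := (V0.ι ≫ q').isoOpensRange.inv.homeomorph.surjective v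
      exact ⟨z, congrArg (V0.ι ≫ q).base hz⟩
  have hpre : ∀ t, t ∈ W₀ ↔ u.base t ∉ Set.range ε.base := by
    intro t
    refine ⟨fun ht => ?_, fun ht => ?_⟩
    · exact hWu.2.le ⟨⟨t, ht⟩, rfl⟩
    · show t ∈ (W₀ : Set _)
      rw [hW₀]
      rintro ⟨y, rfl⟩
      exact ht ⟨y, (congr($heu y)).symm⟩
  refine ⟨?_, fun c => ?_, ?_, fun W hW => ?_⟩
  · haveI : UniversallyClosed (q' ≫ u) := by rw [hu]; infer_instance
    exact UniversallyClosed.of_comp_surjective q' u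
  · by_cases hc : c ∈ Set.range ε.base
    · obtain ⟨y, rfl⟩ := hc
      exact ⟨ε' y, congr($heu y)⟩
    · obtain ⟨z, hz⟩ := hWu.2.ge hc
      exact ⟨z.1, hz⟩
  · refine ((tfae_universallyInjective u).out 1 0).mp ?_
    intro K instK g₁ g₂ hg
    letI := instK
    let o : Spec (CommRingCat.of K) := Classical.arbitrary (PrimeSpectrum K)
    have ho : ∀ z : Spec (CommRingCat.of K), z = o := fun z => Subsingleton.elim (α := PrimeSpectrum K) z o
    have hug' : u.base (g₁ o) = u.base (g₂ o) := congr($hg o)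
    have hmem : g₁ o ∈ W₀ ↔ g₂ o ∈ W₀ := by rw [hpre, hpre, hug']
    by_cases h1 : g₁ o ∈ W₀
    · haveI := hWu.1
      have hr : ∀ (k : Spec (CommRingCat.of K) ⟶ _), k o ∈ W₀ → Set.range k.base ⊆ Set.range W₀.ι.base := by
        rintro k hk _ ⟨z, rfl⟩
        rw [Scheme.Opens.range_ι, ho z]
        exact hk
      rw [← IsOpenImmersion.lift_fac W₀.ι g₁ (hr g₁ h1), ← IsOpenImmersion.lift_fac W₀.ι g₂ (hr g₂ (hmem.mp h1))]
      congr 1
      rw [← cancel_mono (W₀.ι ≫ u), IsOpenImmersion.lift_fac_assoc, IsOpenImmersion.lift_fac_assoc]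
      exact hg
    · have hfac : ∀ k : Spec (CommRingCat.of K) ⟶ (RelSpec.QCAlg.directImage (𝒜.toQCAlg.π ≫ p)).spec, k o ∉ W₀ →
          (k ≫ π') ≫ ε' = k := by
        intro k hk
        haveI : Surjective (pullback.fst k ε') := ⟨fun z => by
          obtain ⟨y, hy⟩ : k z ∈ Set.range ε'.base := by
            by_contra h
            exact hk (ho z ▸ hW₀.ge h)
          obtain ⟨w, hw, -⟩ := Scheme.Pullback.exists_preimage_pullback z y hy.symm
          exact ⟨w, hw⟩⟩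
        haveI := isIso_of_isClosedImmersion_of_surjective (pullback.fst k ε')
        have h := pullback.condition (f := k) (g := ε')
        have h2 : k = (inv (pullback.fst k ε') ≫ pullback.snd k ε') ≫ ε' := by
          rw [Category.assoc, ← h, IsIso.inv_hom_id_assoc]
        obtain ⟨w, hw⟩ : ∃ w : Spec (CommRingCat.of K) ⟶ Y, w ≫ ε' = k := ⟨_, h2.symm⟩
        rw [← hw, Category.assoc _ ε' π', show ε' ≫ π' = 𝟙 Y from hεπ, Category.comp_id]
      rw [← hfac g₁ h1, ← hfac g₂ (fun h => h1 (hmem.mpr h))]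
      congr 1
      have e : ∀ k : Spec (CommRingCat.of K) ⟶ _, k ≫ π' = (k ≫ u) ≫ g := fun k => by
        rw [Category.assoc, hug]
      rw [e, e, show g₁ ≫ u = g₂ ≫ u from hg]
  · obtain rfl : W = W₀ := by
      refine Opens.ext (hW.trans ?_)
      rw [hW₀]
      congr 1
      ext c
      constructor
      · rintro ⟨_, ⟨x, rfl⟩, rfl⟩
        exact ⟨p x, (congr($hjq' x)).symm⟩
      · rintro ⟨y, rfl⟩
        obtain ⟨x, rfl⟩ := p.surjective y
        exact ⟨_, ⟨x, rfl⟩, congr($hjq' x)⟩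
    exact hWu

end EGA2ContractLib

end
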