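import Mathlib
import Groth.Agent.NormSectGlobLib.Basic
import Groth.Agent.RelConeLib.Spec
import Groth.Agent.EGA2SymLib.SymPow
import Groth.Agent.SweepSix.NormSect

/-!
# The cone of functions of a line bundle over an integral or normal scheme
-/

set_option autoImplicit false
set_option linter.all false
universe u

open CategoryTheory CategoryTheory.Limits AlgebraicGeometry TopologicalSpace Opposite
open AmpleLib (GenOn)
open EGA2SymLib

noncomputable section

namespace EGA2ContractLib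

theorem isNormal_of_openImmersion {U V : Scheme.{u}} (j : U ⟶ V) [IsOpenImmersion j]
    (h : Pi1.IsNormalScheme V) : Pi1.IsNormalScheme U := fun x => by
  let e := (asIso (j.stalkMap x)).commRingCatIsoToRingEquiv
  haveI := (h (j x)).1
  haveI := (h (j x)).2
  exact ⟨e.toMulEquiv.isDomain_iff.mp inferInstance, IsIntegrallyClosed.of_equiv e⟩

theorem isNormal_spec_domain (R : CommRingCat.{u}) [IsDomain R] [IsIntegrallyClosed R] :
    Pi1.IsNormalScheme (Spec R) := fun y => by
  let S := (Spec R).presheaf.stalk y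
  letI : Algebra R S := (StructureSheaf.toStalk R y).hom.toAlgebra
  haveI : IsLocalization.AtPrime S y.asIdeal := StructureSheaf.IsLocalization.to_stalk R y
  haveI : IsDomain S := IsLocalization.isDomain_of_atPrime S y.asIdeal
  exact ⟨inferInstance, isIntegrallyClosed_of_isLocalization S y.asIdeal.primeCompl
    (Ideal.primeCompl_le_nonZeroDivisors _)⟩

theorem isIntegral_spec_of_charts {S : Scheme.{u}} [IsIntegral S] (A : RelSpec.QCAlg S)
    (h : ∀ x : S, ∃ (T : S.Opens) (hT : IsAffineOpen T), x ∈ T ∧ IsDomain (A.presheaf.obj (op T)) ∧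
      Function.Injective (A.str.app (op T)).hom) : IsIntegral A.spec := by
  choose T hT hxT hdom hinj using h
  haveI : ∀ x, Nonempty (T x) := fun x => ⟨⟨x, hxT x⟩⟩
  haveI := hdom
  haveI : AlgebraicGeometry.IsReduced A.spec := by
    refine (fun h => @isReduced_of_isReduced_stalk _ h) fun v => ?_
    obtain ⟨z, hz⟩ := RelConeLib.exists_ι_eq A (hT (A.π v)) v (hxT _)
    suffices h : _root_.IsReduced (A.spec.presheaf.stalk (A.ι (T (A.π v)) (hT (A.π v)) z)) by rwa [hz] at h
    have e1 := (asIso ((A.ι _ (hT (A.π v))).stalkMap z)).commRingCatIsoToRingEquiv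
    exact isReduced_of_injective e1.toRingHom e1.injective
  let gen : ∀ x, A.spec := fun x => A.ι (T x) (hT x) ⟨⊥, Ideal.isPrime_bot⟩
  have hspec : ∀ x (z : Spec (A.presheaf.obj (op (T x)))), gen x ⤳ A.ι (T x) (hT x) z := fun x z =>
    ((PrimeSpectrum.le_iff_specializes ⟨⊥, Ideal.isPrime_bot⟩ z).mp (show (⊥ : Ideal _) ≤ _ from bot_le)).map
      (A.ι (T x) (hT x)).continuous
  have hπ : ∀ x x', A.π (gen x) ∈ T x' := fun x x' => by
    have h1 : A.π (gen x) = (hT x).fromSpec (Spec.map (A.str.app (op (T x))) ⟨⊥, Ideal.isPrime_bot⟩) := by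
      rw [← Scheme.Hom.comp_apply, A.ι_π, Scheme.Hom.comp_apply]
    have h2 : Spec.map (A.str.app (op (T x))) ⟨⊥, Ideal.isPrime_bot⟩ = genericPoint (Spec Γ(S, T x)) := by
      refine Eq.trans (PrimeSpectrum.ext ?_) (genericPoint_eq_bot_of_affine _).symm
      exact Ideal.comap_bot_of_injective _ (hinj x)
    rw [h1, h2, genericPoint_eq_of_isOpenImmersion (hT x).fromSpec]
    exact (genericPoint_specializes x').mem_open (T x').2 (hxT x')
  have heq : ∀ x x', gen x = gen x' := fun x x' => by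
    have h : ∀ a b, gen b ⤳ gen a := fun a b => by
      obtain ⟨z, hz⟩ := RelConeLib.exists_ι_eq A (hT b) (gen a) (hπ a b)
      exact hz ▸ hspec b z
    exact ((h x' x).antisymm (h x x')).eq
  haveI : IrreducibleSpace A.spec := by
    let g := gen (genericPoint S)
    have hall : ∀ v, g ⤳ v := fun v => by
      obtain ⟨z, hz⟩ := RelConeLib.exists_ι_eq A (hT (A.π v)) v (hxT _)
      rw [show g = gen (A.π v) from heq _ _]
      have h1 := hspec (A.π v) z
      rwa [hz] at h1
    refine { toPreirreducibleSpace := ⟨?_⟩, toNonempty := ⟨g⟩ }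
    intro U V hU hV hUne hVne
    obtain ⟨a, -, ha⟩ := hUne
    obtain ⟨b, -, hb⟩ := hVne
    exact ⟨g, trivial, (hall a).mem_open hU ha, (hall b).mem_open hV hb⟩
  exact isIntegral_of_irreducibleSpace_of_isReduced _

variable {X : Scheme.{u}} {L : X.Modules} [Coh.IsQCoh L] {A : RelSpec.QCAlg X} {j : L ⟶ A.toModule}
  (hA : RelSpec.IsSymAlg L A j)

/-- the polynomial presentation over a trivializing open -/
def polyHom (j : L ⟶ A.toModule) {T : X.Opens} (e : Γ(L, T)) :
    Polynomial Γ(X, T) →+* A.presheaf.obj (op T) :=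
  Polynomial.eval₂RingHom (A.str.app (op T)).hom (show A.presheaf.obj (op T) from j.app T e)

include hA in
theorem polyHom_bijective {T : X.Opens} (hT : IsAffineOpen T) {e : Γ(L, T)} (he : GenOn L e) :
    Function.Bijective (polyHom j e) := by
  constructor
  · obtain ⟨ψ, hψ, -⟩ := hA (SymAlgLib.symAlg L) (SymAlgLib.symι L)
    let U : X.AffineZariskiSite := ⟨T, hT⟩
    have hb : Function.Bijective (LinearMap.toSpanSingleton Γ(X, T) Γ(L, T) e) := by
      have h1 := he T le_rfl
      simp only [AmpleLib.res_refl] at h1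
      exact h1
    let b : Γ(X, T) ≃ₗ[Γ(X, T)] Γ(L, T) := LinearEquiv.ofBijective _ hb
    let f : Γ(L, T) →ₗ[Γ(X, T)] Polynomial Γ(X, T) :=
      (LinearMap.toSpanSingleton Γ(X, T) (Polynomial Γ(X, T)) Polynomial.X) ∘ₗ b.symm.toLinearMap
    have hfe : f e = Polynomial.X := by
      have : b.symm e = 1 := b.injective (by rw [b.apply_symm_apply]; exact (one_smul _ e).symm)
      simp [f, this]
    let back : A.presheaf.obj (op T) → Polynomial Γ(X, T) := fun a =>
      SymmetricAlgebra.lift f (SymAlgLib.gamma L U ((ψ.hom.app (op T)).hom a))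
    suffices h : ∀ P, back (polyHom j e P) = P from Function.LeftInverse.injective h
    have key : ((SymmetricAlgebra.lift f).toRingHom.comp
        ((SymAlgLib.gamma L U).hom.comp ((ψ.hom.app (op T)).hom.comp (polyHom j e)))) = RingHom.id _ := by
      refine Polynomial.ringHom_ext (fun r => ?_) ?_
      · show back (polyHom j e (Polynomial.C r)) = Polynomial.C r
        rw [show polyHom j e (Polynomial.C r) = (A.str.app (op T)).hom r from Polynomial.eval₂_C _ _]
        show SymmetricAlgebra.lift f (SymAlgLib.gamma L U _) = _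
        rw [show (ψ.hom.app (op T)).hom ((A.str.app (op T)).hom r) = ((SymAlgLib.symAlg L).str.app (op T)).hom r from
            congr($(NatTrans.congr_app ψ.comm (op T)) r),
          show ((SymAlgLib.symAlg L).str.app (op T)).hom r = SymAlgLib.gi L U (algebraMap _ _ r) from
            (SymAlgLib.gi_algebraMap L U r).symm]
        erw [gamma_gi]
        rw [AlgHom.commutes]
        rfl
      · show back (polyHom j e Polynomial.X) = Polynomial.X
        rw [show polyHom j e Polynomial.X = (show A.presheaf.obj (op T) from j.app T e) from Polynomial.eval₂_X _ _]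
        show SymmetricAlgebra.lift f (SymAlgLib.gamma L U _) = _
        rw [show (ψ.hom.app (op T)).hom (show A.presheaf.obj (op T) from j.app T e) =
            SymAlgLib.gi L U (SymmetricAlgebra.ι Γ(X, T) Γ(L, T) e) from
          Eq.trans (congr($(hψ).app T e)) (SymAlgLib.symι_app L U e)]
        erw [gamma_gi]
        rw [SymmetricAlgebra.lift_ι_apply, hfe]
    exact fun P => RingHom.congr_fun key P
  · intro a
    have ha : a ∈ SymGenLib.gen A j T := (SymGenLib.gen_eq_top A j hA T hT).ge (Subring.mem_top a)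
    have hle : SymGenLib.gen A j T ≤ (polyHom j e).range := by
      rw [SymGenLib.gen, Subring.closure_le]
      rintro x (⟨r, rfl⟩ | ⟨n, rfl⟩)
      · exact ⟨Polynomial.C r, Polynomial.eval₂_C _ _⟩
      · obtain ⟨c, hc⟩ := (he T le_rfl).2 n
        simp only [AmpleLib.res_refl] at hc
        refine ⟨Polynomial.C c * Polynomial.X, ?_⟩
        rw [map_mul, show polyHom j e (Polynomial.C c) = (A.str.app (op T)).hom c from Polynomial.eval₂_C _ _,
          show polyHom j e Polynomial.X = (show A.presheaf.obj (op T) from j.app T e) from Polynomial.eval₂_X _ _,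
          ← hc]
        exact (QCohLib.app_smul j T c e).symm
    exact hle ha

include hA in
theorem str_injective {T : X.Opens} (hT : IsAffineOpen T) {e : Γ(L, T)} (he : GenOn L e) :
    Function.Injective (A.str.app (op T)).hom := fun r s h => by
  refine Polynomial.C_injective ((polyHom_bijective hA hT he).1 ?_)
  exact (Polynomial.eval₂_C _ _).trans (h.trans (Polynomial.eval₂_C _ _).symm)

variable (hL : PicF.IsInvertible L)

include hA hL in
theorem isIntegral_lineBundle [IsIntegral X] : IsIntegral A.spec := by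
  refine isIntegral_spec_of_charts A fun x => ?_
  obtain ⟨U, e, hxU, he⟩ := TwistLib.exists_genOn hL x
  obtain ⟨T, hT, hxT, hle⟩ := exists_isAffineOpen_mem_and_subset (X := X) (x := x) (U := U) hxU
  have heT : GenOn L (AmpleLib.res L (show T ≤ U from hle) e) := he.res _
  haveI : Nonempty T := ⟨⟨x, hxT⟩⟩
  exact ⟨T, hT, hxT, (RingEquiv.ofBijective _ (polyHom_bijective hA hT heT)).symm.injective.isDomain _,
    str_injective hA hT heT⟩

include hA hL in
theorem normal_lineBundle (hloc : ∀ x : X, ∃ U : X.Opens, x ∈ U ∧ IsIntegral (U : Scheme.{u}))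
    (hN : Pi1.IsNormalScheme X) :
    Pi1.IsNormalScheme A.spec ∧ ∀ v : A.spec, ∃ O : A.spec.Opens, v ∈ O ∧ IsIntegral (O : Scheme.{u}) := by
  have key : ∀ v : A.spec, ∃ (T : X.Opens) (hT : IsAffineOpen T) (z : Spec (A.presheaf.obj (op T))),
      A.ι T hT z = v ∧ IsDomain (A.presheaf.obj (op T)) ∧ IsIntegrallyClosed (A.presheaf.obj (op T)) := fun v => by
    obtain ⟨O, hxO, hO⟩ := hloc (A.π v)
    obtain ⟨U, e, hxU, he⟩ := TwistLib.exists_genOn hL (A.π v)
    obtain ⟨T, hT, hxT, hle⟩ := exists_isAffineOpen_mem_and_subset (X := X) (x := A.π v) (U := O ⊓ U) ⟨hxO, hxU⟩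
    obtain ⟨z, hz⟩ := RelConeLib.exists_ι_eq A hT v hxT
    have heT : GenOn L (AmpleLib.res L (fun y hy => (hle hy).2 : T ≤ U) e) := he.res _
    haveI : Nonempty (T : Scheme.{u}) := ⟨⟨A.π v, hxT⟩⟩
    haveI : IsIntegral (T : Scheme.{u}) :=
      isIntegral_of_isOpenImmersion (X.homOfLE (fun y hy => (hle hy).1 : T ≤ O))
    haveI : IsAffine (T : Scheme.{u}) := hT
    haveI : Nonempty (⊤ : (T : Scheme.{u}).Opens) := ⟨⟨⟨A.π v, hxT⟩, trivial⟩⟩
    haveI : IsDomain Γ(X, T) :=
      T.topIso.commRingCatIsoToRingEquiv.toMulEquiv.isDomain_iff.mp inferInstance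
    haveI : IsIntegrallyClosed Γ(X, T) := by
      haveI := SweepSix.NormSect.isIntegrallyClosed_of_stalk (isAffineOpen_top (T : Scheme.{u}))
        (isNormal_of_openImmersion T.ι hN)
      exact IsIntegrallyClosed.of_equiv T.topIso.commRingCatIsoToRingEquiv
    let φ := RingEquiv.ofBijective _ (polyHom_bijective hA hT heT)
    exact ⟨T, hT, z, hz, φ.toMulEquiv.isDomain_iff.mp inferInstance, IsIntegrallyClosed.of_equiv φ⟩
  refine ⟨fun v => ?_, fun v => ?_⟩
  · obtain ⟨T, hT, z, rfl, h1, h2⟩ := key v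
    haveI := h1
    haveI := h2
    let e := (asIso ((A.ι T hT).stalkMap z)).commRingCatIsoToRingEquiv
    haveI := (isNormal_spec_domain (A.presheaf.obj (op T)) z).1
    haveI := (isNormal_spec_domain (A.presheaf.obj (op T)) z).2
    exact ⟨e.symm.toMulEquiv.isDomain_iff.mp inferInstance, IsIntegrallyClosed.of_equiv e.symm⟩
  · obtain ⟨T, hT, z, rfl, h1, h2⟩ := key v
    haveI := h1
    haveI : Nonempty ((A.ι T hT).opensRange : Scheme.{u}) := ⟨⟨_, z, rfl⟩⟩
    exact ⟨(A.ι T hT).opensRange, ⟨z, rfl⟩,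
      isIntegral_of_isOpenImmersion (A.ι T hT).isoOpensRange.inv⟩

variable {Y : Scheme.{u}} (f : X ⟶ Y) [QuasiCompact f] [QuasiSeparated f]

theorem preimage_nonempty (hlam : IsIso f.c) {U : Y.Opens} {y : Y} (hy : y ∈ U) : ∃ x, f x ∈ U := by
  by_contra h
  push Not at h
  have hU : f ⁻¹ᵁ U = ⊥ := le_bot_iff.mp fun x hx => h x hx
  haveI : Subsingleton Γ(X, f ⁻¹ᵁ U) := CommRingCat.subsingleton_of_isTerminal (hU ▸ X.sheaf.isTerminalOfEmpty)
  haveI : IsIso (f.app U) := inferInstanceAs (IsIso (f.c.app (op U)))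
  haveI : Subsingleton Γ(Y, U) := (ConcreteCategory.bijective_of_isIso (f.app U)).1.subsingleton
  have := congrArg (Y.presheaf.germ U y hy).hom (Subsingleton.elim (0 : Γ(Y, U)) 1)
  rw [map_zero, map_one] at this
  exact zero_ne_one this

include hA hL in
theorem integral_part (hlam : IsIso f.c) [IsIntegral X] :
    IsIntegral (RelSpec.QCAlg.directImage (A.π ≫ f)).spec := by
  haveI := isIntegral_lineBundle hA hL
  haveI : AlgebraicGeometry.IsReduced Y := by
    refine (fun h => @AlgebraicGeometry.IsReduced.mk Y h) fun U => ?_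
    haveI : IsIso (f.app U) := inferInstanceAs (IsIso (f.c.app (op U)))
    exact isReduced_of_injective (f.app U).hom (ConcreteCategory.bijective_of_isIso (f.app U)).1
  haveI : IrreducibleSpace Y :=
    { toPreirreducibleSpace := ⟨fun U V hU hV hUne hVne => by
        obtain ⟨a, -, ha⟩ := hUne
        obtain ⟨b, -, hb⟩ := hVne
        obtain ⟨x, hx⟩ := preimage_nonempty f hlam (U := ⟨U, hU⟩) ha
        obtain ⟨x', hx'⟩ := preimage_nonempty f hlam (U := ⟨V, hV⟩) hb
        obtain ⟨z, -, hz, hz'⟩ := (IrreducibleSpace.isIrreducible_univ X).2 _ _ (f ⁻¹ᵁ ⟨U, hU⟩).2 (f ⁻¹ᵁ ⟨V, hV⟩).2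
          ⟨x, trivial, hx⟩ ⟨x', trivial, hx'⟩
        exact ⟨f z, trivial, hz, hz'⟩⟩
      toNonempty := ⟨f (Classical.arbitrary X)⟩ }
  haveI := isIntegral_of_irreducibleSpace_of_isReduced Y
  have hne : ∀ {U : Y.Opens} {y : Y}, y ∈ U → ∃ v : A.spec, (A.π ≫ f) v ∈ U := fun {U y} hy => by
    obtain ⟨x, hx⟩ := preimage_nonempty f hlam hy
    obtain ⟨W, e, hxW, he⟩ := TwistLib.exists_genOn hL x
    obtain ⟨T, hT, hxT, hle⟩ := exists_isAffineOpen_mem_and_subset (X := X) (x := x) (U := f ⁻¹ᵁ U ⊓ W) ⟨hx, hxW⟩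
    haveI : Nonempty T := ⟨⟨x, hxT⟩⟩
    haveI : Nontrivial (A.presheaf.obj (op T)) :=
      (str_injective hA hT (he.res (fun y hy => (hle hy).2 : T ≤ W))).nontrivial
    obtain ⟨z⟩ : Nonempty (Spec (A.presheaf.obj (op T))) :=
      inferInstanceAs (Nonempty (PrimeSpectrum (A.presheaf.obj (op T))))
    refine ⟨A.ι T hT z, ?_⟩
    show f (A.π (A.ι T hT z)) ∈ U
    exact (hle (RelConeLib.preimage_π_ι A hT z)).1
  refine isIntegral_spec_of_charts _ fun y => ?_
  obtain ⟨U, hU, hyU, -⟩ := exists_isAffineOpen_mem_and_subset (X := Y) (x := y) (U := ⊤) trivial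
  obtain ⟨v, hv⟩ := hne hyU
  haveI : Nonempty ((A.π ≫ f) ⁻¹ᵁ U) := ⟨⟨v, hv⟩⟩
  refine ⟨U, hU, hyU, inferInstanceAs (IsDomain Γ(A.spec, (A.π ≫ f) ⁻¹ᵁ U)), ?_⟩
  refine (injective_iff_map_eq_zero _).mpr fun r hr => ?_
  by_contra hr0
  obtain ⟨y', hy'⟩ : (Y.basicOpen r : Set Y).Nonempty := by
    rw [Set.nonempty_iff_ne_empty]
    intro h
    exact hr0 ((basicOpen_eq_bot_iff r).mp (Opens.ext h))
  obtain ⟨w, hw⟩ := hne hy'
  have h2 : w ∈ (A.π ≫ f) ⁻¹ᵁ Y.basicOpen r := hw
  rw [Scheme.preimage_basicOpen, show (A.π ≫ f).app U r = 0 from hr, Scheme.basicOpen_zero] at h2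
  exact h2

include hA hL in
theorem normal_part (hloc : ∀ x : X, ∃ U : X.Opens, x ∈ U ∧ IsIntegral (U : Scheme.{u}))
    (hN : Pi1.IsNormalScheme X) : Pi1.IsNormalScheme (RelSpec.QCAlg.directImage (A.π ≫ f)).spec := by
  obtain ⟨hVN, hVloc⟩ := normal_lineBundle hA hL hloc hN
  intro c
  obtain ⟨U, hU, z, rfl⟩ := RelConeLib.exists_chart (RelSpec.QCAlg.directImage (A.π ≫ f)) c
  let P := (A.π ≫ f) ⁻¹ᵁ U
  have hP : Pi1.IsNormalScheme (Spec Γ((P : Scheme.{u}), ⊤)) := by
    refine NormSectGlobLib.isNormalScheme_spec_sections (isNormal_of_openImmersion P.ι hVN) fun w => ?_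
    obtain ⟨O, hwO, hO⟩ := hVloc (P.ι w)
    refine ⟨P.ι ⁻¹ᵁ O, hwO, ?_⟩
    haveI : Nonempty ((P.ι ⁻¹ᵁ O : (P : Scheme.{u}).Opens) : Scheme.{u}) := ⟨⟨w, hwO⟩⟩
    exact isIntegral_of_isOpenImmersion (P.ι ∣_ O)
  have hD : Pi1.IsNormalScheme (Spec ((RelSpec.QCAlg.directImage (A.π ≫ f)).presheaf.obj (op U))) :=
    isNormal_of_openImmersion (Spec.map P.topIso.hom) hP
  let e := (asIso (((RelSpec.QCAlg.directImage (A.π ≫ f)).ι U hU).stalkMap z)).commRingCatIsoToRingEquiv
  haveI := (hD z).1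
  haveI := (hD z).2
  exact ⟨e.symm.toMulEquiv.isDomain_iff.mp inferInstance, IsIntegrallyClosed.of_equiv e.symm⟩

end EGA2ContractLib

end
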