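import Mathlib
import Groth.Agent.EGA2ContractLib.Factor
import Groth.Agent.EGA2ContractLib.Taylor
import Groth.Agent.S3568

/-!
# The factor of a contraction onto a normal cone is an isomorphism
-/

set_option autoImplicit false
set_option linter.all false
universe u

open CategoryTheory CategoryTheory.Limits AlgebraicGeometry TopologicalSpace Opposite
open EGA2SymLib

noncomputable section

namespace EGA2ContractLib

variable {X : Scheme.{u}} {L : X.Modules} [Coh.IsQCoh L] {𝒜 : RelProj.QCGrAlg X} {jL : L ⟶ 𝒜.toModule}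
  (hL : PicF.IsInvertible L) (hj : RelProj.IsGrSymAlg L 𝒜 jL)

include hj in
theorem isDomain_sections [IsIntegral X] {T : X.Opens} (hT : IsAffineOpen T) [Nonempty T] {e : Γ(L, T)}
    (he : AmpleLib.GenOn L e) : IsDomain (𝒜.presheaf.obj (op T)) := by
  refine Function.Injective.isDomain (coords hT hj he) fun a b h => ?_
  classical
  rw [← DirectSum.sum_support_decompose (𝒜.deg T hT) a, ← DirectSum.sum_support_decompose (𝒜.deg T hT) b]
  have h2 := congrArg (twistHom 𝒜 jL e) h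
  rw [twistHom_coords, twistHom_coords] at h2
  have h3 : ∀ n, DirectSum.decompose (𝒜.deg T hT) a n = DirectSum.decompose (𝒜.deg T hT) b n := fun n =>
    Subtype.ext (by simpa using congrArg (PowerSeries.coeff n) h2)
  rw [show DirectSum.decompose (𝒜.deg T hT) a = DirectSum.decompose (𝒜.deg T hT) b from DFinsupp.ext h3]

include hL hj in
theorem isIntegral_spec [IsIntegral X] : IsIntegral 𝒜.toQCAlg.spec := by
  have hloc : ∀ x : X, ∃ (T : X.Opens) (hT : IsAffineOpen T) (e : Γ(L, T)), x ∈ T ∧ AmpleLib.GenOn L e := fun x => by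
    obtain ⟨U, e, hxU, he⟩ := TwistLib.exists_genOn hL x
    obtain ⟨T, hT, hxT, hle⟩ := exists_isAffineOpen_mem_and_subset (X := X) (x := x) (U := U) hxU
    exact ⟨T, hT, _, hxT, he.res (show T ≤ U from hle)⟩
  choose T hT e hxT he using hloc
  haveI : ∀ x, Nonempty (T x) := fun x => ⟨⟨x, hxT x⟩⟩
  haveI : ∀ x, IsDomain (𝒜.presheaf.obj (op (T x))) := fun x => isDomain_sections hj (hT x) (he x)
  haveI : IsReduced 𝒜.toQCAlg.spec := by
    refine (fun h => @isReduced_of_isReduced_stalk _ h) fun v => ?_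
    obtain ⟨z, hz⟩ := RelConeLib.exists_ι_eq 𝒜.toQCAlg (hT (𝒜.toQCAlg.π v)) v (hxT _)
    suffices h : _root_.IsReduced (𝒜.toQCAlg.spec.presheaf.stalk
        (𝒜.toQCAlg.ι (T (𝒜.toQCAlg.π v)) (hT (𝒜.toQCAlg.π v)) z)) by rwa [hz] at h
    have e1 := (asIso ((𝒜.toQCAlg.ι _ (hT (𝒜.toQCAlg.π _))).stalkMap z)).commRingCatIsoToRingEquiv
    exact isReduced_of_injective e1.toRingHom e1.injective
  let η := genericPoint X
  let gen : ∀ x, 𝒜.toQCAlg.spec := fun x =>
    𝒜.toQCAlg.ι (T x) (hT x) ⟨⊥, Ideal.isPrime_bot⟩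
  have hspec : ∀ x (z : Spec (𝒜.presheaf.obj (op (T x)))), gen x ⤳ 𝒜.toQCAlg.ι (T x) (hT x) z := fun x z =>
    ((PrimeSpectrum.le_iff_specializes ⟨⊥, Ideal.isPrime_bot⟩ z).mp (show (⊥ : Ideal _) ≤ _ from bot_le)).map
      (𝒜.toQCAlg.ι (T x) (hT x)).continuous
  have hπ : ∀ x x', 𝒜.toQCAlg.π (gen x) ∈ T x' := fun x x' => by
    have hgen : ∀ y ∈ T x, 𝒜.toQCAlg.π (gen x) ⤳ y := fun y hy => by
      obtain ⟨s, rfl⟩ : y ∈ Set.range (hT x).fromSpec := by rw [(hT x).range_fromSpec]; exact hy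
      have hz := (hspec x (linePt (hT x) hj (he x) s)).map 𝒜.toQCAlg.π.continuous
      rwa [π_linePt] at hz
    have h1 : 𝒜.toQCAlg.π (gen x) ⤳ η :=
      hgen η ((genericPoint_specializes x).mem_open (T x).2 (hxT x))
    exact h1.mem_open (T x').2 ((genericPoint_specializes x').mem_open (T x').2 (hxT x'))
  have heq : ∀ x x', gen x = gen x' := fun x x' => by
    have h : ∀ a b, gen b ⤳ gen a := fun a b => by
      obtain ⟨z, hz⟩ := RelConeLib.exists_ι_eq 𝒜.toQCAlg (hT b) (gen a) (hπ a b)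
      exact hz ▸ hspec b z
    exact ((h x' x).antisymm (h x x')).eq
  haveI : IrreducibleSpace 𝒜.toQCAlg.spec := by
    let g := gen η
    have hall : ∀ v, g ⤳ v := fun v => by
      obtain ⟨z, hz⟩ := RelConeLib.exists_ι_eq 𝒜.toQCAlg (hT (𝒜.toQCAlg.π v)) v (hxT _)
      rw [show g = gen (𝒜.toQCAlg.π v) from heq _ _]
      have h1 := hspec (𝒜.toQCAlg.π v) z
      rwa [hz] at h1
    refine { toPreirreducibleSpace := ⟨?_⟩, toNonempty := ⟨g⟩ }
    intro U V hU hV hUne hVne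
    obtain ⟨a, -, ha⟩ := hUne
    obtain ⟨b, -, hb⟩ := hVne
    exact ⟨g, trivial, (hall a).mem_open hU ha, (hall b).mem_open hV hb⟩
  exact isIntegral_of_irreducibleSpace_of_isReduced _

theorem isIntegral_of_surjective {V C : Scheme.{u}} (q : V ⟶ C) [IsIntegral V] [Surjective q] [IsReduced C] :
    IsIntegral C := by
  haveI : IrreducibleSpace C :=
    { toPreirreducibleSpace := ⟨by
        have := (IrreducibleSpace.isIrreducible_univ V).2.image q.base q.continuous.continuousOn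
        rwa [Set.image_univ, q.surjective.range_eq] at this⟩
      toNonempty := ⟨q (Classical.arbitrary V)⟩ }
  exact isIntegral_of_irreducibleSpace_of_isReduced _

theorem isReduced_of_isIso_c {V C : Scheme.{u}} (q : V ⟶ C) [IsReduced V] [IsIso q.c] : IsReduced C := by
  refine (fun h => @AlgebraicGeometry.IsReduced.mk C h) fun U => ?_
  haveI : IsIso (q.app U) := inferInstanceAs (IsIso (q.c.app (op U)))
  exact isReduced_of_injective (q.app U).hom (ConcreteCategory.bijective_of_isIso (q.app U)).1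

theorem residueFieldMap_bijective {U V : Scheme.{u}} (f : U ⟶ V) (x : U) [IsIso (f.stalkMap x)] :
    Function.Bijective (f.residueFieldMap x).hom := by
  refine ⟨(f.residueFieldMap x).hom.injective, fun b => ?_⟩
  obtain ⟨b, rfl⟩ := IsLocalRing.residue_surjective b
  obtain ⟨a, rfl⟩ := (ConcreteCategory.bijective_of_isIso (f.stalkMap x)).2 b
  exact ⟨IsLocalRing.residue _ a, rfl⟩

variable {Y : Scheme.{u}} (p : X ⟶ Y) [IsProper p]
  (h0 : RelCone.StrZeroBij 𝒜) {aug : 𝒜.toQCAlg ⟶ RelSpec.QCAlg.unit X} (haug : RelCone.IsAugmentation 𝒜 aug)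
  {j0 : X ⟶ 𝒜.toQCAlg.spec} (hj0 : RelCone.IsVertex 𝒜 aug j0) (hθ : IsIso p.c)
  (hamp : RelAmple.IsRelAmple p L)
  {q' : 𝒜.toQCAlg.spec ⟶ (RelSpec.QCAlg.directImage (𝒜.toQCAlg.π ≫ p)).spec}
  {hq'π : q' ≫ (RelSpec.QCAlg.directImage (𝒜.toQCAlg.π ≫ p)).π = 𝒜.toQCAlg.π ≫ p} (hq' : IsCanonical p q' hq'π)
  {V0 : 𝒜.toQCAlg.spec.Opens} (hV0 : (V0 : Set 𝒜.toQCAlg.spec) = (Set.range j0.base)ᶜ)
  {C : Scheme.{u}} {g : C ⟶ Y} {ε : Y ⟶ C} (hε : ε ≫ g = 𝟙 Y) {q : 𝒜.toQCAlg.spec ⟶ C}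
  (hqg : q ≫ g = 𝒜.toQCAlg.π ≫ p) (hjq : j0 ≫ q = p ≫ ε)

include hL hj h0 haug hj0 hθ hamp hq' hε hqg hjq hV0 in
theorem isIso_factor [IsIntegral X] (hC : Pi1.IsNormalScheme C) [IsProper q] (hqo : IsOpenImmersion (V0.ι ≫ q))
    (hqr : Set.range (V0.ι ≫ q).base = (Set.range ε.base)ᶜ)
    (u : (RelSpec.QCAlg.directImage (𝒜.toQCAlg.π ≫ p)).spec ⟶ C)
    (hug : u ≫ g = (RelSpec.QCAlg.directImage (𝒜.toQCAlg.π ≫ p)).π) (hu : q' ≫ u = q) : IsIso u := by
  obtain ⟨hP, hS, hc, ε', hεπ, hjq', hV, hrange⟩ := canonical_data p hL hj h0 haug hj0 hθ hamp hq' hV0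
  obtain ⟨hUC, hsurj, hUI, hWall⟩ := factor_props p hL hj h0 haug hj0 hθ hamp hq' hV0 hε hqg hjq hqo hqr u hug hu
  haveI := hP
  haveI := hS
  haveI := hc
  haveI := isIntegral_spec hL hj
  haveI := isReduced_of_isIso_c q'
  haveI : IsIntegral (RelSpec.QCAlg.directImage (𝒜.toQCAlg.π ≫ p)).spec := isIntegral_of_surjective q'
  haveI : IsReduced C := (fun h => @isReduced_of_isReduced_stalk C h) fun c =>
    haveI := (hC c).1
    inferInstance
  haveI : Surjective u := ⟨hsurj⟩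
  haveI : IsIntegral C := isIntegral_of_surjective u
  haveI := hUC
  haveI := hUI
  refine Groth.Agent.S3568.result hC u ((genericPoint_spec C).eq ?_).symm ?_
  · refine (isGenericPoint_def).mpr (top_le_iff.mp fun c _ => ?_)
    obtain ⟨z, rfl⟩ := hsurj c
    exact (specializes_iff_mem_closure).mp ((genericPoint_specializes z).map u.continuous)
  · let W : (RelSpec.QCAlg.directImage (𝒜.toQCAlg.π ≫ p)).spec.Opens :=
      ⟨(q'.base '' Set.range j0.base)ᶜ, ((q'.isClosedMap _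
        (RelConeLib.isClosedImmersion_vertex hj0).base_closed.isClosed_range)).isOpen_compl⟩
    obtain ⟨hWo, hWr⟩ := hWall W rfl
    haveI := hWo
    obtain ⟨v⟩ : Nonempty (V0 : Scheme.{u}) := by
      obtain ⟨U, e, hxU, he⟩ := TwistLib.exists_genOn hL (genericPoint X)
      obtain ⟨T, hT, hxT, hle⟩ := exists_isAffineOpen_mem_and_subset (X := X) (x := genericPoint X) (U := U) hxU
      refine ⟨⟨𝒜.toQCAlg.ι T hT (linePt hT hj (he.res (show T ≤ U from hle)) (hT.primeIdealOf ⟨_, hxT⟩)), ?_⟩⟩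
      show _ ∈ (V0 : Set 𝒜.toQCAlg.spec)
      rw [hV0, ← RelConeLib.compl_vertex h0 haug hj0]
      exact linePt_mem_pointedCone hT hj _ _
    obtain ⟨w, -⟩ : (V0.ι ≫ q).base v ∈ Set.range (W.ι ≫ u).base := by
      rw [hWr, ← hqr]
      exact ⟨v, rfl⟩
    have hξ : genericPoint (RelSpec.QCAlg.directImage (𝒜.toQCAlg.π ≫ p)).spec ∈ W :=
      (genericPoint_specializes w.1).mem_open W.2 w.2
    haveI : IsIso (u.stalkMap (W.ι ⟨_, hξ⟩)) := by
      have h : IsIso ((W.ι ≫ u).stalkMap ⟨_, hξ⟩) := inferInstance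
      rw [Scheme.Hom.stalkMap_comp] at h
      haveI := h
      exact @IsIso.of_isIso_comp_right _ _ _ _ _ (u.stalkMap (W.ι ⟨_, hξ⟩)) (W.ι.stalkMap ⟨_, hξ⟩) inferInstance h
    exact residueFieldMap_bijective u (W.ι ⟨_, hξ⟩)

end EGA2ContractLib

end
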